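import Cfsg.Agent.Lib.Cusp48.Equi

/-!
# Primary endomorphisms and their values
-/

set_option autoImplicit false
set_option linter.unusedSectionVars false
set_option linter.style.haveILetI false

namespace Cfsg.Agent.Lib.Cusp48

open Module Polynomial

variable {F : Type*} [Field F] [Finite F] {Ω : Type*} [Field Ω] (ι : F →+* Ω) (τ : Ω → ℂ)

/-- The sum of the lifts of the roots. -/
noncomputable def rsum (P : F[X]) : ℂ := (((P.map ι).roots).map τ).sum

theorem rsum_one : rsum ι τ (1 : F[X]) = 0 := by simp [rsum]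

theorem rsum_mul {P Q : F[X]} (hP : P ≠ 0) (hQ : Q ≠ 0) :
    rsum ι τ (P * Q) = rsum ι τ P + rsum ι τ Q := by
  rw [rsum, Polynomial.map_mul, roots_mul, Multiset.map_add, Multiset.sum_add]
  · rfl
  · exact mul_ne_zero (by simpa using hP) (by simpa using hQ)

theorem rsum_pow {P : F[X]} (hP : P ≠ 0) (k : ℕ) : rsum ι τ (P ^ k) = k * rsum ι τ P := by
  induction k with
  | zero => simp [rsum_one]
  | succ k ih =>
    rw [pow_succ, rsum_mul ι τ (pow_ne_zero _ hP) hP, ih]
    push_cast; ring

variable {V : Type*} [AddCommGroup V] [Module F V] [FiniteDimensional F V]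
  {V' : Type*} [AddCommGroup V'] [Module F V'] [FiniteDimensional F V']

/-- The dimension of the kernel of `f φ`. -/
noncomputable def kdim (φ : Module.End F V) (f : F[X]) : ℕ :=
  finrank F (LinearMap.ker (aeval φ f))

/-- `φ` is `f`-primary. -/
def Prim (φ : Module.End F V) (f : F[X]) : Prop :=
  Irreducible f ∧ f.Monic ∧ ∃ k, 0 < k ∧ φ.charpoly = f ^ k

theorem Prim.unique {φ : Module.End F V} {f g : F[X]} (hf : Prim φ f) (hg : Prim φ g) : f = g := by
  obtain ⟨hf, hfm, k, hk, hfk⟩ := hf
  obtain ⟨hg, hgm, l, hl, hgl⟩ := hg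
  have h : f ∣ g ^ l := by rw [← hgl, hfk]; exact dvd_pow_self _ (by omega)
  exact eq_of_monic_of_associated hfm hgm (hf.associated_of_dvd hg (hf.prime.dvd_of_dvd_pow h))

open scoped Classical in
/-- The value at an endomorphism: zero unless it is primary. -/
noncomputable def val (φ : Module.End F V) : ℂ :=
  if h : ∃ f, Prim φ f then
    Phi ((Nat.card F : ℂ) ^ h.choose.natDegree) (kdim φ h.choose / h.choose.natDegree) *
      rsum ι τ h.choose
  else 0

theorem val_prim {φ : Module.End F V} {f : F[X]} (h : Prim φ f) :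
    val ι τ φ = Phi ((Nat.card F : ℂ) ^ f.natDegree) (kdim φ f / f.natDegree) * rsum ι τ f := by
  have he : ∃ f, Prim φ f := ⟨f, h⟩
  rw [val, dif_pos he, Prim.unique he.choose_spec h]

theorem val_not {φ : Module.End F V} (h : ¬ ∃ f, Prim φ f) : val ι τ φ = 0 := by
  rw [val, dif_neg h]

theorem mem_Equi_symm {φ : Module.End F V} {φ' : Module.End F V'} (e : V ≃ₗ[F] V')
    (h : (e : V →ₗ[F] V') ∈ Equi φ φ') : (e.symm : V' →ₗ[F] V) ∈ Equi φ' φ := by
  refine mem_Equi.2 (LinearMap.ext fun x => e.injective ?_)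
  have := LinearMap.congr_fun (mem_Equi.1 h) (e.symm x)
  simp only [LinearMap.comp_apply, LinearEquiv.coe_coe, LinearEquiv.apply_symm_apply] at this ⊢
  exact this.symm

theorem kdim_congr {φ : Module.End F V} {φ' : Module.End F V'} (e : V ≃ₗ[F] V')
    (h : (e : V →ₗ[F] V') ∈ Equi φ φ') (f : F[X]) : kdim φ f = kdim φ' f := by
  refine LinearEquiv.finrank_eq (e.ofSubmodules (LinearMap.ker (aeval φ f))
    (LinearMap.ker (aeval φ' f)) ?_)
  ext x
  have hx : ∀ y, e (aeval φ f y) = aeval φ' f (e y) := fun y =>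
    LinearMap.congr_fun (equi_aeval h f) y
  rw [Submodule.mem_map]
  constructor
  · rintro ⟨y, hy, rfl⟩
    rw [LinearMap.mem_ker] at hy ⊢
    rw [LinearEquiv.coe_coe, ← hx, hy, map_zero]
  · intro hx0
    refine ⟨e.symm x, ?_, e.apply_symm_apply x⟩
    rw [LinearMap.mem_ker] at hx0 ⊢
    exact e.injective (by rw [hx, e.apply_symm_apply, hx0, map_zero])

theorem charpoly_congr {φ : Module.End F V} {φ' : Module.End F V'} (e : V ≃ₗ[F] V')
    (h : (e : V →ₗ[F] V') ∈ Equi φ φ') : φ.charpoly = φ'.charpoly := by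
  have : φ' = e.conj φ := by
    refine LinearMap.ext fun x => ?_
    have := LinearMap.congr_fun (mem_Equi.1 h) (e.symm x)
    simp only [LinearMap.comp_apply, LinearEquiv.coe_coe, LinearEquiv.apply_symm_apply] at this
    rw [LinearEquiv.conj_apply_apply, this]
  rw [this, LinearEquiv.charpoly_conj]

theorem val_congr {φ : Module.End F V} {φ' : Module.End F V'} (e : V ≃ₗ[F] V')
    (h : (e : V →ₗ[F] V') ∈ Equi φ φ') : val ι τ φ = val ι τ φ' := by
  have hiff : ∀ g, Prim φ g ↔ Prim φ' g := fun g => by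
    unfold Prim; rw [charpoly_congr e h]
  by_cases hp : ∃ f, Prim φ f
  · obtain ⟨f, hf⟩ := hp
    rw [val_prim ι τ hf, val_prim ι τ ((hiff f).1 hf), kdim_congr e h]
  · rw [val_not ι τ hp, val_not ι τ fun ⟨f, hf⟩ => hp ⟨f, (hiff f).2 hf⟩]

/-! ### An invariant subspace -/

variable {φ : Module.End F V} {W : Submodule F V}

omit [FiniteDimensional F V] in
theorem subtype_mem_Equi (hW : W ≤ W.comap φ) : W.subtype ∈ Equi (φ.restrict hW) φ := rfl

omit [FiniteDimensional F V] in
theorem mkQ_mem_Equi (hW : W ≤ W.comap φ) : W.mkQ ∈ Equi φ (W.mapQ W φ hW) := by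
  refine mem_Equi.2 (LinearMap.ext fun x => ?_)
  simp

omit [FiniteDimensional F V] in
theorem aeval_mem (hW : W ≤ W.comap φ) (P : F[X]) {x : V} (hx : x ∈ W) : aeval φ P x ∈ W := by
  have := LinearMap.congr_fun (equi_aeval (subtype_mem_Equi hW) P) ⟨x, hx⟩
  simp only [LinearMap.comp_apply, Submodule.subtype_apply] at this
  rw [← this]
  exact Submodule.coe_mem _

/-- The characteristic polynomial is multiplicative. -/
theorem charpoly_eq_mul (hW : W ≤ W.comap φ) :
    φ.charpoly = (φ.restrict hW).charpoly * (W.mapQ W φ hW).charpoly := by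
  classical
  let bW := Module.finBasis F W
  let bQ := Module.finBasis F (V ⧸ W)
  let b := Module.Basis.sumQuot bW bQ
  let A := LinearMap.toMatrix bW bW (φ.restrict hW)
  let B := Matrix.of fun i l => (b.repr (φ (b (Sum.inr l)))) (Sum.inl i)
  let D := LinearMap.toMatrix bQ bQ (W.mapQ W φ hW)
  suffices h : LinearMap.toMatrix b b φ = Matrix.fromBlocks A B 0 D by
    rw [← LinearMap.charpoly_toMatrix φ b, h, Matrix.charpoly_fromBlocks_zero₂₁,
      LinearMap.charpoly_toMatrix, LinearMap.charpoly_toMatrix]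
  ext u v
  cases u with
  | inl i =>
    cases v with
    | inl k =>
      simp only [b, Module.Basis.sumQuot_inl, Matrix.fromBlocks_apply₁₁, A, LinearMap.toMatrix_apply]
      apply Module.Basis.sumQuot_repr_inl_of_mem
    | inr l => simp [b, LinearMap.toMatrix_apply, Matrix.fromBlocks_apply₁₂, B]
  | inr j =>
    cases v with
    | inl k =>
      suffices W.mkQ (φ (bW k)) = 0 by simp [LinearMap.toMatrix_apply, b, this]
      rw [← LinearMap.mem_ker, Submodule.ker_mkQ]
      exact hW (Submodule.coe_mem (bW k))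
    | inr l =>
      simp only [LinearMap.toMatrix_apply, Module.Basis.sumQuot_repr_inr,
        Matrix.fromBlocks_apply₂₂, b, D]
      rw [← Module.Basis.sumQuot_inr bW bQ l, W.mapQ_apply]
      simp

omit [Finite F] in
theorem prim_part {g : Module.End F V'} (hne : Nontrivial V') {f : F[X]} {k : ℕ} {P : F[X]}
    (hf : Irreducible f) (hfm : f.Monic) (h : g.charpoly * P = f ^ k) : Prim g f := by
  obtain ⟨a, -, ha⟩ := (dvd_prime_pow hf.prime k).1 (Dvd.intro _ h)
  refine ⟨hf, hfm, a, ?_, eq_of_monic_of_associated g.charpoly_monic (hfm.pow a) ha⟩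
  have h1 := congrArg natDegree (eq_of_monic_of_associated g.charpoly_monic (hfm.pow a) ha)
  rw [LinearMap.charpoly_natDegree, natDegree_pow] at h1
  rcases Nat.eq_zero_or_pos a with rfl | h2
  · have := Module.finrank_pos (R := F) (M := V')
    omega
  · exact h2

theorem Prim.sub {f : F[X]} (h : Prim φ f) (hW : W ≤ W.comap φ) (hW0 : W ≠ ⊥) :
    Prim (φ.restrict hW) f := by
  obtain ⟨hf, hfm, k, -, hk⟩ := h
  haveI : Nontrivial W := Submodule.nontrivial_iff_ne_bot.2 hW0
  exact prim_part inferInstance hf hfm (P := (W.mapQ W φ hW).charpoly)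
    (by rw [← hk, charpoly_eq_mul hW])

theorem Prim.quot {f : F[X]} (h : Prim φ f) (hW : W ≤ W.comap φ) (hW1 : W ≠ ⊤) :
    Prim (W.mapQ W φ hW) f := by
  obtain ⟨hf, hfm, k, -, hk⟩ := h
  haveI : Nontrivial (V ⧸ W) := Submodule.Quotient.nontrivial_iff.2 hW1
  exact prim_part inferInstance hf hfm (P := (φ.restrict hW).charpoly)
    (by rw [mul_comm, ← hk, charpoly_eq_mul hW])

/-- The invariant kernel. -/
theorem ker_invariant (f : F[X]) :
    LinearMap.ker (aeval φ f) ≤ (LinearMap.ker (aeval φ f)).comap φ := by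
  intro x hx
  rw [LinearMap.mem_ker] at hx
  rw [Submodule.mem_comap, LinearMap.mem_ker]
  have hc := ((Commute.all f X).map (aeval φ)).eq
  rw [aeval_X] at hc
  have h := LinearMap.congr_fun hc x
  simp only [Module.End.mul_apply] at h
  rw [h, hx, map_zero]

theorem aeval_ker_restrict (f : F[X]) :
    aeval (φ.restrict (p := LinearMap.ker (aeval φ f)) (q := LinearMap.ker (aeval φ f))
      (fun _ hx => ker_invariant f hx)) f = 0 := by
  refine LinearMap.ext fun x => Subtype.ext ?_
  have h := LinearMap.congr_fun (equi_aeval (subtype_mem_Equi (ker_invariant (φ := φ) f)) f) x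
  simp only [LinearMap.comp_apply, Submodule.subtype_apply] at h
  rw [h, LinearMap.zero_apply, ZeroMemClass.coe_zero]
  exact x.2

theorem natDegree_dvd_kdim {f : F[X]} (hf : Irreducible f) : f.natDegree ∣ kdim φ f :=
  natDegree_dvd_finrank hf (aeval_ker_restrict (φ := φ) f)

theorem Prim.kdim_pos {f : F[X]} (h : Prim φ f) : 0 < kdim φ f := by
  obtain ⟨hf, -, k, hk, hcp⟩ := h
  by_contra h0
  push Not at h0
  have hker : LinearMap.ker (aeval φ f) = ⊥ := Submodule.finrank_eq_zero.1 (Nat.le_zero.1 h0)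
  have hinj : Function.Injective (aeval φ f) := LinearMap.ker_eq_bot.1 hker
  have h1 : aeval φ (f ^ k) = 0 := by rw [← hcp]; exact φ.aeval_self_charpoly
  rw [map_pow] at h1
  have hinjk : Function.Injective ((aeval φ f) ^ k) := by
    rw [Module.End.coe_pow]; exact hinj.iterate k
  rw [h1] at hinjk
  haveI : Subsingleton V := ⟨fun a b => hinjk (by simp)⟩
  have h2 := congrArg natDegree hcp
  rw [LinearMap.charpoly_natDegree, natDegree_pow, Module.finrank_zero_of_subsingleton] at h2
  rcases mul_eq_zero.1 h2.symm with h3 | h3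
  · omega
  · exact absurd h3 hf.natDegree_pos.ne'

theorem kdim_eq_coker (f : F[X]) : kdim φ f = finrank F (V ⧸ LinearMap.range (aeval φ f)) := by
  have h1 := LinearMap.finrank_range_add_finrank_ker (aeval φ f)
  have h2 := Submodule.finrank_quotient_add_finrank (LinearMap.range (aeval φ f))
  unfold kdim
  omega

theorem range_invariant (f : F[X]) :
    LinearMap.range (aeval φ f) ≤ (LinearMap.range (aeval φ f)).comap φ := by
  rintro _ ⟨x, rfl⟩
  exact ⟨φ x, LinearMap.congr_fun (equi_aeval (δ := φ) (φA := φ) (φB := φ) rfl f).symm x⟩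

theorem aeval_coker (f : F[X]) :
    aeval ((LinearMap.range (aeval φ f)).mapQ _ φ (range_invariant f)) f = 0 := by
  refine LinearMap.ext fun x => ?_
  obtain ⟨v, rfl⟩ := Submodule.mkQ_surjective _ x
  have h := LinearMap.congr_fun (equi_aeval (mkQ_mem_Equi (range_invariant (φ := φ) f)) f) v
  simp only [LinearMap.comp_apply] at h
  rw [← h, LinearMap.zero_apply, Submodule.mkQ_apply, Submodule.Quotient.mk_eq_zero]
  exact ⟨v, rfl⟩

end Cfsg.Agent.Lib.Cusp48
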