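import Mathlib

/-!
# A vanishing sum over linear maps

`Phi Q j = ∏_{1 ≤ i < j} (1 - Q ^ i)`.  The sum of `Phi Q (a + b - rank δ)` over all linear maps
`δ` from a space of dimension `a ≥ 1` to one of dimension `b ≥ 1` over a field with `Q` elements
is zero.
-/

set_option autoImplicit false
set_option linter.unusedSectionVars false

namespace Cfsg.Agent.Lib.Cusp48

open Module

/-- The product `∏_{1 ≤ i < j} (1 - Q ^ i)`. -/
noncomputable def Phi (Q : ℂ) (j : ℕ) : ℂ := ∏ i ∈ Finset.Ico 1 j, (1 - Q ^ i)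

theorem Phi_one (Q : ℂ) : Phi Q 1 = 1 := by simp [Phi]

theorem Phi_succ (Q : ℂ) {m : ℕ} (hm : 1 ≤ m) : Phi Q (m + 1) = Phi Q m * (1 - Q ^ m) := by
  rw [Phi, Phi, Finset.prod_Ico_succ_top hm]

theorem Phi_ne_zero {Q : ℕ} (hQ : 2 ≤ Q) (j : ℕ) : Phi (Q : ℂ) j ≠ 0 := by
  refine Finset.prod_ne_zero_iff.2 fun i hi h => ?_
  rw [sub_eq_zero] at h
  have h1 : Q ^ i = 1 := by exact_mod_cast h.symm
  have := Finset.mem_Ico.1 hi
  rcases Nat.pow_eq_one.1 h1 with h2 | h2 <;> omega

section Maps

variable {K : Type*} [Field K] [Fintype K] {B : Type*} [AddCommGroup B] [Module K B] [Fintype B]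

/-- The rank of a tuple. -/
noncomputable def rk {a : ℕ} (v : Fin a → B) : ℕ := finrank K (Submodule.span K (Set.range v))

theorem rk_le {a : ℕ} (v : Fin a → B) : rk (K := K) v ≤ a := by
  have h := finrank_range_le_card (R := K) v
  rwa [Fintype.card_fin, Set.finrank] at h

theorem rk_le_dim {a : ℕ} (v : Fin a → B) : rk (K := K) v ≤ finrank K B := Submodule.finrank_le _

theorem span_cons {a : ℕ} (w : B) (v : Fin a → B) :
    Submodule.span K (Set.range (Fin.cons w v : Fin (a + 1) → B)) =
      Submodule.span K {w} ⊔ Submodule.span K (Set.range v) := by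
  rw [Fin.range_cons, Submodule.span_insert]

theorem rk_cons_mem {a : ℕ} {w : B} {v : Fin a → B} (h : w ∈ Submodule.span K (Set.range v)) :
    rk (K := K) (Fin.cons w v : Fin (a + 1) → B) = rk (K := K) v := by
  unfold rk
  rw [span_cons, sup_eq_right.2 ((Submodule.span_singleton_le_iff_mem _ _).2 h)]

theorem rk_cons_not_mem {a : ℕ} {w : B} {v : Fin a → B} (h : w ∉ Submodule.span K (Set.range v)) :
    rk (K := K) (Fin.cons w v : Fin (a + 1) → B) = rk (K := K) v + 1 := by
  unfold rk
  have hw : w ≠ 0 := fun h0 => h (h0 ▸ zero_mem _)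
  have hinf : Submodule.span K {w} ⊓ Submodule.span K (Set.range v) = ⊥ := by
    rw [← disjoint_iff, Submodule.disjoint_span_singleton' hw |> disjoint_comm.trans]
    exact h
  have h1 := Submodule.finrank_sup_add_finrank_inf_eq (Submodule.span K {w})
    (Submodule.span K (Set.range v))
  rw [hinf, finrank_bot, finrank_span_singleton hw, ← span_cons] at h1
  omega

theorem sum_step (c a : ℕ) (hb : 1 ≤ finrank K B) :
    ∑ v : Fin (a + 1) → B, Phi (Fintype.card K : ℂ) (c + (a + 1) + finrank K B - rk (K := K) v) =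
      (Fintype.card K : ℂ) ^ finrank K B * (1 - (Fintype.card K : ℂ) ^ (c + a)) *
        ∑ v : Fin a → B, Phi (Fintype.card K : ℂ) (c + a + finrank K B - rk (K := K) v) := by
  classical
  rw [← Equiv.sum_comp (Fin.consEquiv fun _ => B), Fintype.sum_prod_type, Finset.sum_comm,
    Finset.mul_sum]
  refine Finset.sum_congr rfl fun v _ => ?_
  set b := finrank K B
  set r := rk (K := K) v with hr
  set Q : ℂ := (Fintype.card K : ℂ)
  set S := Submodule.span K (Set.range v)
  set m := c + a + b - r with hm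
  have hra : r ≤ a := rk_le v
  have hrb : r ≤ b := rk_le_dim v
  have hval : ∀ w : B, Phi Q (c + (a + 1) + b - rk (K := K) ((Fin.consEquiv fun _ => B) (w, v))) =
      if w ∈ S then Phi Q (m + 1) else Phi Q m := by
    intro w
    show Phi Q (c + (a + 1) + b - rk (K := K) (Fin.cons w v : Fin (a + 1) → B)) = _
    split_ifs with h
    · rw [rk_cons_mem h]; congr 1; omega
    · rw [rk_cons_not_mem h]; congr 1; omega
  simp_rw [hval]
  rw [Finset.sum_ite]
  simp only [Finset.sum_const, nsmul_eq_mul]
  have hS : (Finset.univ.filter fun w : B => w ∈ S).card = Fintype.card K ^ r := by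
    rw [← Fintype.card_subtype]
    exact Module.card_eq_pow_finrank
  have hB : Fintype.card B = Fintype.card K ^ b := Module.card_eq_pow_finrank
  have hsum := Finset.card_filter_add_card_filter_not (s := (Finset.univ : Finset B))
    fun w : B => w ∈ S
  rw [Finset.card_univ, hS, hB] at hsum
  have hS' : ((Finset.univ.filter fun w : B => ¬ w ∈ S).card : ℂ) = Q ^ b - Q ^ r := by
    rw [eq_sub_iff_add_eq, add_comm]
    have h2 := congrArg (Nat.cast (R := ℂ)) hsum
    rw [Nat.cast_add, Nat.cast_pow, Nat.cast_pow] at h2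
    exact h2
  rw [hS, hS', Phi_succ Q (by omega : 1 ≤ m)]
  push_cast
  have hrm : Q ^ r * Q ^ m = Q ^ b * Q ^ (c + a) := by rw [← pow_add, ← pow_add]; congr 1; omega
  linear_combination (-Phi Q m) * hrm

theorem sum_tuples (hb : 1 ≤ finrank K B) :
    ∀ a : ℕ, 1 ≤ a → ∑ v : Fin a → B, Phi (Fintype.card K : ℂ) (a + finrank K B - rk (K := K) v) = 0
  | 0, h => absurd h (by omega)
  | a + 1, _ => by
    have h := sum_step (K := K) (B := B) 0 a hb
    simp only [zero_add] at h
    rw [h]
    rcases Nat.eq_zero_or_pos a with rfl | ha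
    · simp
    · rw [sum_tuples hb a ha, mul_zero]

/-- The sum over all linear maps. -/
theorem sum_linearMap {A : Type*} [AddCommGroup A] [Module K A] [FiniteDimensional K A]
    [Fintype (A →ₗ[K] B)] (ha : 1 ≤ finrank K A) (hb : 1 ≤ finrank K B) :
    ∑ δ : A →ₗ[K] B, Phi (Fintype.card K : ℂ)
      (finrank K A + finrank K B - finrank K (LinearMap.range δ)) = 0 := by
  classical
  rw [← Equiv.sum_comp ((Module.finBasis K A).constr (S := K) (M' := B)).toEquiv]
  rw [← sum_tuples (K := K) hb _ ha]
  refine Finset.sum_congr rfl fun v _ => ?_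
  congr 2
  show finrank K (LinearMap.range ((Module.finBasis K A).constr K v)) = _
  rw [Basis.constr_range]
  rfl

end Maps

end Cfsg.Agent.Lib.Cusp48
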