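import Cfsg.Agent.Lib.Cusp48.Basic

/-!
# The sum over the unipotent radical
-/

set_option autoImplicit false
set_option linter.unusedSectionVars false
set_option linter.style.haveILetI false

namespace Cfsg.Agent.Lib.Cusp48

open Module Polynomial

variable {F : Type*} [Field F] [Finite F] {V : Type*} [AddCommGroup V] [Module F V]
  [FiniteDimensional F V] {W : Submodule F V}

/-- The perturbation `φ + ι X π`. -/
def pert (φ : Module.End F V) (X : (V ⧸ W) →ₗ[F] W) : Module.End F V :=
  φ + W.subtype ∘ₗ X ∘ₗ W.mkQ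

theorem pert_zero (φ : Module.End F V) : pert (W := W) φ 0 = φ := by simp [pert]

theorem pert_pert (φ : Module.End F V) (X Y : (V ⧸ W) →ₗ[F] W) :
    pert (pert φ X) Y = pert φ (X + Y) := by
  simp only [pert, LinearMap.add_comp, LinearMap.comp_add, add_assoc]

theorem mkQ_subtype_zero (x : W) : W.mkQ (x : V) = 0 := (Submodule.Quotient.mk_eq_zero W).2 x.2

variable {φ : Module.End F V} (hW : W ≤ W.comap φ)
include hW

theorem pert_subtype (X : (V ⧸ W) →ₗ[F] W) : W.subtype ∈ Equi (φ.restrict hW) (pert φ X) := by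
  refine mem_Equi.2 (LinearMap.ext fun x => ?_)
  simp only [pert, LinearMap.comp_apply, LinearMap.add_apply, Submodule.subtype_apply]
  rw [mkQ_subtype_zero, map_zero]
  simp [LinearMap.coe_restrict_apply]

theorem pert_mkQ (X : (V ⧸ W) →ₗ[F] W) : W.mkQ ∈ Equi (pert φ X) (W.mapQ W φ hW) := by
  refine mem_Equi.2 (LinearMap.ext fun x => ?_)
  simp only [pert, LinearMap.comp_apply, LinearMap.add_apply, Submodule.subtype_apply, map_add]
  rw [mkQ_subtype_zero, add_zero]
  simp

theorem pert_invariant (X : (V ⧸ W) →ₗ[F] W) : W ≤ W.comap (pert φ X) := fun x hx => by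
  rw [Submodule.mem_comap]
  have h := LinearMap.congr_fun (mem_Equi.1 (pert_subtype hW X)) ⟨x, hx⟩
  simp only [LinearMap.comp_apply, Submodule.subtype_apply] at h
  rw [← h]
  exact Submodule.coe_mem _

theorem pert_restrict (X : (V ⧸ W) →ₗ[F] W) :
    (pert φ X).restrict (pert_invariant hW X) = φ.restrict hW := by
  refine LinearMap.ext fun x => Subtype.ext ?_
  exact (LinearMap.congr_fun (mem_Equi.1 (pert_subtype hW X)) x).symm

theorem pert_mapQ (X : (V ⧸ W) →ₗ[F] W) :
    W.mapQ W (pert φ X) (pert_invariant hW X) = W.mapQ W φ hW := by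
  refine Submodule.linearMap_qext _ (LinearMap.ext fun x => ?_)
  have h := LinearMap.congr_fun (mem_Equi.1 (pert_mkQ hW X)) x
  simp only [LinearMap.comp_apply, Submodule.mapQ_apply, Submodule.mkQ_apply] at h ⊢
  exact h

theorem pert_charpoly (X : (V ⧸ W) →ₗ[F] W) : (pert φ X).charpoly = φ.charpoly := by
  rw [charpoly_eq_mul (pert_invariant hW X), pert_restrict hW, pert_mapQ hW, ← charpoly_eq_mul hW]

/-- Polynomials in the perturbation. -/
theorem exists_deriv (P : F[X]) :
    ∃ D : ((V ⧸ W) →ₗ[F] W) →ₗ[F] ((V ⧸ W) →ₗ[F] W),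
      (∀ X, aeval (pert φ X) P = aeval φ P + W.subtype ∘ₗ D X ∘ₗ W.mkQ) ∧
      ∀ {A B : Type _} [AddCommGroup A] [Module F A] [AddCommGroup B] [Module F B]
        (φA : Module.End F A) (φB : Module.End F B) (a : A →ₗ[F] V ⧸ W) (p : W →ₗ[F] B)
        (_ : a ∈ Equi φA (W.mapQ W φ hW)) (_ : p ∈ Equi (φ.restrict hW) φB)
        (X : (V ⧸ W) →ₗ[F] W) (ψ : A →ₗ[F] B),
        ψ ∈ Equi φA φB → p ∘ₗ X ∘ₗ a = ψ → p ∘ₗ D X ∘ₗ a = ψ ∘ₗ aeval φA (derivative P) := by
  induction P using Polynomial.induction_on with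
  | C c =>
    refine ⟨0, fun X => by simp, fun φA φB a p ha hp X ψ hψ h => ?_⟩
    simp
  | add P Q hP hQ =>
    obtain ⟨D, hD, hD'⟩ := hP
    obtain ⟨E, hE, hE'⟩ := hQ
    refine ⟨D + E, fun X => ?_, fun φA φB a p ha hp X ψ hψ h => ?_⟩
    · rw [map_add, map_add, hD, hE, LinearMap.add_apply, LinearMap.add_comp, LinearMap.comp_add]
      abel
    · rw [LinearMap.add_apply, LinearMap.add_comp, LinearMap.comp_add,
        hD' φA φB a p ha hp X ψ hψ h, hE' φA φB a p ha hp X ψ hψ h, derivative_add, map_add,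
        LinearMap.comp_add]
  | monomial n c ih =>
    obtain ⟨D, hD, hD'⟩ := ih
    let φW : Module.End F W := φ.restrict hW
    let φQ := W.mapQ W φ hW
    let E : ((V ⧸ W) →ₗ[F] W) →ₗ[F] ((V ⧸ W) →ₗ[F] W) :=
      { toFun := fun X => φW ∘ₗ D X + X ∘ₗ aeval φQ (C c * Polynomial.X ^ n)
        map_add' := fun X Y => by
          rw [map_add, LinearMap.comp_add, LinearMap.add_comp]; abel
        map_smul' := fun r X => by
          rw [map_smul, LinearMap.comp_smul, LinearMap.smul_comp, smul_add, RingHom.id_apply] }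
    have hk : C c * Polynomial.X ^ (n + 1) = Polynomial.X * (C c * Polynomial.X ^ n) := by ring
    refine ⟨E, fun X => ?_, fun φA φB a p ha hp X ψ hψ h => ?_⟩
    · rw [hk, map_mul (aeval (pert φ X)) Polynomial.X, map_mul (aeval φ) Polynomial.X, aeval_X,
        aeval_X, hD X]
      refine LinearMap.ext fun x => ?_
      simp only [Module.End.mul_apply, LinearMap.add_apply, LinearMap.comp_apply,
        Submodule.subtype_apply, map_add, pert, E, LinearMap.coe_mk, AddHom.coe_mk]
      rw [mkQ_subtype_zero, map_zero, ZeroMemClass.coe_zero, add_zero]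
      have h1 := LinearMap.congr_fun (equi_aeval (mkQ_mem_Equi hW) (C c * Polynomial.X ^ n)) x
      simp only [LinearMap.comp_apply] at h1
      rw [h1]
      have h2 : φ ((D X (W.mkQ x) : W) : V) = ((φW (D X (W.mkQ x)) : W) : V) := rfl
      rw [h2]
      simp only [φQ, φW]
      abel
    · refine LinearMap.ext fun x => ?_
      have h1 := LinearMap.congr_fun (mem_Equi.1 hp) (D X (a x))
      have h2 := LinearMap.congr_fun (hD' φA φB a p ha hp X ψ hψ h) x
      have h3 := LinearMap.congr_fun (equi_aeval ha (C c * Polynomial.X ^ n)) x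
      have h4 := LinearMap.congr_fun h (aeval φA (C c * Polynomial.X ^ n) x)
      have h5 := LinearMap.congr_fun (mem_Equi.1 hψ) (aeval φA (derivative (C c * Polynomial.X ^ n)) x)
      simp only [LinearMap.comp_apply] at h1 h2 h3 h4 h5
      show p (φW (D X (a x)) + X (aeval φQ (C c * Polynomial.X ^ n) (a x))) = _
      rw [hk, derivative_mul, derivative_X, one_mul, map_add (aeval φA), LinearMap.comp_add, map_add,
        map_mul (aeval φA) Polynomial.X, aeval_X, LinearMap.add_apply, LinearMap.comp_apply,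
        LinearMap.comp_apply, Module.End.mul_apply, h5, ← h3, h4, h1, h2]
      abel

/-- The sum of the values over the perturbations vanishes. -/
theorem sum_pert (hW0 : W ≠ ⊥) (hW1 : W ≠ ⊤) {f : F[X]} (hp : Prim φ f)
    [Fintype ((V ⧸ W) →ₗ[F] W)] :
    ∑ X : (V ⧸ W) →ₗ[F] W,
      Phi ((Nat.card F : ℂ) ^ f.natDegree) (kdim (pert φ X) f / f.natDegree) = 0 := by
  classical
  haveI : Finite V := Module.finite_of_finite F
  obtain ⟨D, hD, hD'⟩ := exists_deriv hW f
  set φW : Module.End F W := φ.restrict hW with hφW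
  set φQ := W.mapQ W φ hW with hφQ
  set a := (LinearMap.ker (aeval φQ f)).subtype with ha
  set φA : Module.End F (LinearMap.ker (aeval φQ f)) :=
    φQ.restrict (fun _ hx => ker_invariant f hx) with hφA
  set φB := (LinearMap.range (aeval φW f)).mapQ _ φW (range_invariant f) with hφB
  set p := (LinearMap.range (aeval φW f)).mkQ with hpdef
  have haE : a ∈ Equi φA φQ := rfl
  have hpE : p ∈ Equi φW φB := mkQ_mem_Equi (range_invariant f)
  have hA : aeval φA f = 0 := aeval_ker_restrict f
  have hB : aeval φB f = 0 := aeval_coker f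
  obtain ⟨σ, hσ⟩ := W.mkQ.exists_rightInverse_of_surjective W.range_mkQ
  have hfT : ∀ (X : (V ⧸ W) →ₗ[F] W) (v : V),
      W.mkQ (aeval (pert φ X) f v) = aeval φQ f (W.mkQ v) := fun X v =>
    LinearMap.congr_fun (equi_aeval (pert_mkQ hW X) f) v
  have hmem : ∀ (X : (V ⧸ W) →ₗ[F] W) (x : LinearMap.ker (aeval φQ f)),
      aeval (pert φ X) f (σ (a x)) ∈ W := fun X x => by
    rw [← Submodule.Quotient.mk_eq_zero, ← Submodule.mkQ_apply, hfT, ← LinearMap.comp_apply W.mkQ σ, hσ]
    exact x.2
  let δ : ((V ⧸ W) →ₗ[F] W) → (LinearMap.ker (aeval φQ f) →ₗ[F] W ⧸ LinearMap.range (aeval φW f)) :=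
    fun X => p ∘ₗ (aeval (pert φ X) f ∘ₗ σ ∘ₗ a).codRestrict W (hmem X)
  have hfW : ∀ (X : (V ⧸ W) →ₗ[F] W) (w : W),
      aeval (pert φ X) f (w : V) = ((aeval φW f w : W) : V) := fun X w =>
    (LinearMap.congr_fun (equi_aeval (pert_subtype hW X) f) w).symm
  have hδE : ∀ X, δ X ∈ Equi φA φB := by
    intro X
    refine mem_Equi.2 (LinearMap.ext fun x => ?_)
    set T := pert φ X
    have hw : σ (φQ (a x)) - T (σ (a x)) ∈ W := by
      rw [← Submodule.Quotient.mk_eq_zero, ← Submodule.mkQ_apply, map_sub,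
        ← LinearMap.comp_apply W.mkQ σ, hσ]
      have h3 := LinearMap.congr_fun (mem_Equi.1 (pert_mkQ hW X)) (σ (a x))
      simp only [LinearMap.comp_apply] at h3
      rw [h3, ← LinearMap.comp_apply W.mkQ σ, hσ]
      exact sub_self _
    have h1 := LinearMap.congr_fun (mem_Equi.1 hpE)
      ((aeval T f ∘ₗ σ ∘ₗ a).codRestrict W (hmem X) x)
    simp only [LinearMap.comp_apply] at h1
    simp only [δ, LinearMap.comp_apply]
    rw [← h1, hpdef, Submodule.mkQ_apply, Submodule.mkQ_apply, Submodule.Quotient.eq]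
    refine ⟨⟨_, hw⟩, Subtype.ext ?_⟩
    rw [← hfW X, map_sub]
    have h2 := LinearMap.congr_fun (equi_aeval (δ := T) (φA := T) (φB := T) rfl f) (σ (a x))
    simp only [LinearMap.comp_apply] at h2
    rw [← h2]
    simp only [Submodule.coe_sub, LinearMap.codRestrict_apply, LinearMap.comp_apply]
    congr 1
    exact (LinearMap.congr_fun (mem_Equi.1 (pert_subtype hW X))
      ((aeval T f ∘ₗ σ ∘ₗ a).codRestrict W (hmem X) x)).symm
  have hdim : ∀ X, kdim (pert φ X) f + finrank F (LinearMap.range (δ X)) =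
      finrank F (LinearMap.ker (aeval φQ f)) + finrank F (W ⧸ LinearMap.range (aeval φW f)) := by
    intro X
    let Pm : LinearMap.ker (aeval (pert φ X) f) →ₗ[F] LinearMap.ker (aeval φQ f) :=
      (W.mkQ ∘ₗ (LinearMap.ker (aeval (pert φ X) f)).subtype).codRestrict _ fun v => by
        rw [LinearMap.mem_ker, LinearMap.comp_apply, ← hfT X, Submodule.subtype_apply, v.2, map_zero]
    have hrange : LinearMap.range Pm = LinearMap.ker (δ X) := by
      ext x
      constructor
      · rintro ⟨v, rfl⟩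
        rw [LinearMap.mem_ker]
        simp only [δ, LinearMap.comp_apply]
        rw [hpdef, Submodule.mkQ_apply, Submodule.Quotient.mk_eq_zero]
        have hw : σ (W.mkQ (v : V)) - (v : V) ∈ W := by
          rw [← Submodule.Quotient.mk_eq_zero, ← Submodule.mkQ_apply, map_sub,
            ← LinearMap.comp_apply W.mkQ σ, hσ]
          exact sub_self _
        refine ⟨⟨_, hw⟩, Subtype.ext ?_⟩
        rw [← hfW X, map_sub, LinearMap.mem_ker.1 v.2, sub_zero]
        rfl
      · intro hx
        rw [LinearMap.mem_ker] at hx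
        simp only [δ, LinearMap.comp_apply] at hx
        rw [hpdef, Submodule.mkQ_apply, Submodule.Quotient.mk_eq_zero] at hx
        obtain ⟨w, hw⟩ := hx
        have hw' := congrArg Subtype.val hw
        rw [← hfW X] at hw'
        refine ⟨⟨σ (a x) - (w : V), ?_⟩, Subtype.ext ?_⟩
        · rw [LinearMap.mem_ker, map_sub, hw']
          exact sub_self _
        · show W.mkQ (σ (a x) - (w : V)) = _
          rw [map_sub, mkQ_subtype_zero, sub_zero, ← LinearMap.comp_apply W.mkQ σ, hσ]
          rfl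
    let j : LinearMap.ker (aeval φW f) →ₗ[F] LinearMap.ker Pm :=
      ((W.subtype ∘ₗ (LinearMap.ker (aeval φW f)).subtype).codRestrict
          (LinearMap.ker (aeval (pert φ X) f)) fun w => by
        rw [LinearMap.mem_ker, LinearMap.comp_apply, Submodule.subtype_apply, hfW X,
          Submodule.subtype_apply, w.2, ZeroMemClass.coe_zero]).codRestrict _ fun w =>
        LinearMap.mem_ker.2 (Subtype.ext (mkQ_subtype_zero (w : W)))
    have hj : Function.Bijective j := by
      refine ⟨fun w w' h => ?_, fun v => ?_⟩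
      · exact Subtype.ext (Subtype.ext (congrArg
          (fun t : LinearMap.ker Pm => ((t : LinearMap.ker (aeval (pert φ X) f)) : V)) h))
      · have hv : ((v : LinearMap.ker (aeval (pert φ X) f)) : V) ∈ W :=
          (Submodule.Quotient.mk_eq_zero W).1 (congrArg Subtype.val (LinearMap.mem_ker.1 v.2))
        refine ⟨⟨⟨_, hv⟩, LinearMap.mem_ker.2 (Subtype.ext ?_)⟩, rfl⟩
        rw [← hfW X, ZeroMemClass.coe_zero]
        exact (v : LinearMap.ker (aeval (pert φ X) f)).2
    have h1 := (LinearEquiv.ofBijective j hj).finrank_eq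
    have h2 := LinearMap.finrank_range_add_finrank_ker Pm
    have h3 := LinearMap.finrank_range_add_finrank_ker (δ X)
    rw [hrange] at h2
    have h4 := kdim_eq_coker (φ := φW) f
    unfold kdim at h4 ⊢
    omega
  -- the affine structure
  let Λ₀ : ((V ⧸ W) →ₗ[F] W) →ₗ[F]
      (LinearMap.ker (aeval φQ f) →ₗ[F] W ⧸ LinearMap.range (aeval φW f)) :=
    { toFun := fun X => p ∘ₗ D X ∘ₗ a
      map_add' := fun X Y => by rw [map_add, LinearMap.add_comp, LinearMap.comp_add]
      map_smul' := fun r X => by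
        rw [map_smul, LinearMap.smul_comp, LinearMap.comp_smul, RingHom.id_apply] }
  have hδ : ∀ X, δ X = δ 0 + Λ₀ X := by
    intro X
    refine LinearMap.ext fun x => ?_
    simp only [δ, Λ₀, LinearMap.coe_mk, AddHom.coe_mk, LinearMap.add_apply, LinearMap.comp_apply]
    rw [← map_add]
    congr 1
    refine Subtype.ext ?_
    simp only [LinearMap.codRestrict_apply, LinearMap.comp_apply, Submodule.coe_add]
    have h1 := LinearMap.congr_fun (hD X) (σ (a x))
    have h2 : D X (W.mkQ (σ (a x))) = D X (a x) := by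
      rw [← LinearMap.comp_apply W.mkQ σ, hσ]; rfl
    rw [pert_zero, h1, LinearMap.add_apply, LinearMap.comp_apply, LinearMap.comp_apply, h2]
    rfl
  have hΛ : ∀ X, Λ₀ X ∈ Equi φA φB := fun X => by
    have h := (Equi φA φB).sub_mem (hδE X) (hδE 0)
    rwa [hδ X, add_sub_cancel_left] at h
  let Λ := Λ₀.codRestrict (Equi φA φB) hΛ
  haveI : PerfectField F := PerfectField.ofFinite
  have hsep : IsCoprime f (derivative f) := PerfectField.separable_of_irreducible hp.1
  have hΛs : LinearMap.range Λ = ⊤ := by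
    rw [eq_top_iff]
    rintro ⟨ψ, hψ⟩ -
    obtain ⟨c, b, hcb⟩ := hsep
    set u := ψ ∘ₗ aeval φA b with hu
    have huE : u ∈ Equi φA φB := by
      refine mem_Equi.2 ?_
      rw [hu, LinearMap.comp_assoc, ← LinearMap.comp_assoc (aeval φA b) ψ φB, ← mem_Equi.1 hψ,
        LinearMap.comp_assoc _ φA]
      congr 1
      exact equi_aeval (δ := φA) rfl b |>.symm
    obtain ⟨r, hr⟩ := p.exists_rightInverse_of_surjective (Submodule.range_mkQ _)
    obtain ⟨l, hl⟩ := a.exists_leftInverse_of_injective (Submodule.ker_subtype _)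
    refine ⟨r ∘ₗ u ∘ₗ l, Subtype.ext ?_⟩
    show p ∘ₗ D (r ∘ₗ u ∘ₗ l) ∘ₗ a = ψ
    rw [hD' φA φB a p haE hpE _ u huE (LinearMap.ext fun x => by
      have h1 := LinearMap.congr_fun hl x
      have h2 := LinearMap.congr_fun hr (u x)
      simp only [LinearMap.comp_apply, LinearMap.id_apply] at h1 h2 ⊢
      rw [h1, h2]), hu, LinearMap.comp_assoc, ← Module.End.mul_eq_comp, ← map_mul]
    have : aeval φA (b * derivative f) = 1 := by
      have h1 := congrArg (aeval φA) hcb
      rwa [map_add, map_mul, hA, mul_zero, zero_add, map_one] at h1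
    rw [this]
    rfl
  haveI : Module.Free F (Equi φA φB) := Module.Free.of_divisionRing F ↥(Equi φA φB)
  haveI : Module.Projective F (Equi φA φB) := Module.Projective.of_free
  obtain ⟨s, hs⟩ := Λ.exists_rightInverse_of_surjective hΛs
  haveI : Finite (Equi φA φB) := Finite.of_surjective Λ (LinearMap.range_eq_top.1 hΛs)
  letI : Fintype (Equi φA φB) := Fintype.ofFinite _
  letI : Fintype (LinearMap.ker Λ) := Fintype.ofFinite _
  let e : (LinearMap.ker Λ) × (Equi φA φB) ≃ ((V ⧸ W) →ₗ[F] W) :=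
    { toFun := fun z => (z.1 : (V ⧸ W) →ₗ[F] W) + s (z.2 - ⟨δ 0, hδE 0⟩)
      invFun := fun X => (⟨X - s (Λ X), by
          rw [LinearMap.mem_ker, map_sub, ← LinearMap.comp_apply Λ s, hs, LinearMap.id_apply,
            sub_self]⟩, Λ X + ⟨δ 0, hδE 0⟩)
      left_inv := fun z => by
        have h1 : Λ (s (z.2 - ⟨δ 0, hδE 0⟩)) = z.2 - ⟨δ 0, hδE 0⟩ := by
          rw [← LinearMap.comp_apply Λ s, hs, LinearMap.id_apply]
        refine Prod.ext (Subtype.ext ?_) ?_
        · show _ - s (Λ _) = _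
          rw [map_add, LinearMap.mem_ker.1 z.1.2, zero_add, h1, add_sub_cancel_right]
        · show Λ _ + _ = _
          rw [map_add, LinearMap.mem_ker.1 z.1.2, zero_add, h1]
          exact Subtype.ext (sub_add_cancel (z.2 : LinearMap.ker (aeval φQ f) →ₗ[F] _) (δ 0))
      right_inv := fun X => by
        show X - s (Λ X) + s (Λ X + ⟨δ 0, hδE 0⟩ - ⟨δ 0, hδE 0⟩) = X
        have h1 : Λ X + (⟨δ 0, hδE 0⟩ : Equi φA φB) - ⟨δ 0, hδE 0⟩ = Λ X :=
          Subtype.ext (add_sub_cancel_right ((Λ X : Equi φA φB) : LinearMap.ker (aeval φQ f) →ₗ[F] _) (δ 0))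
        exact (congrArg (fun t => X - s (Λ X) + s t) h1).trans (sub_add_cancel X (s (Λ X))) }
  have hpos1 : 0 < finrank F (LinearMap.ker (aeval φQ f)) := (hp.quot hW hW1).kdim_pos
  have hpos2 : 0 < finrank F (W ⧸ LinearMap.range (aeval φW f)) := by
    rw [← kdim_eq_coker]; exact (hp.sub hW hW0).kdim_pos
  rw [← e.sum_comp, Fintype.sum_prod_type]
  refine Finset.sum_eq_zero fun z _ => ?_
  rw [← (equi_count hp.1 hA hB).2 hpos1 hpos2]
  refine Finset.sum_congr rfl fun y _ => ?_
  have hy : δ (e (z, y)) = (y : LinearMap.ker (aeval φQ f) →ₗ[F] _) := by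
    rw [hδ]
    show δ 0 + ((Λ (e (z, y)) : Equi φA φB) : LinearMap.ker (aeval φQ f) →ₗ[F] _) = _
    show δ 0 + ((Λ ((z : (V ⧸ W) →ₗ[F] W) + s (y - ⟨δ 0, hδE 0⟩)) : Equi φA φB) :
      LinearMap.ker (aeval φQ f) →ₗ[F] _) = _
    rw [map_add, LinearMap.mem_ker.1 z.2, zero_add, ← LinearMap.comp_apply Λ s, hs, LinearMap.id_apply,
      AddSubgroupClass.coe_sub, add_sub_cancel]
  have h := hdim (e (z, y))
  rw [hy] at h
  congr 2
  omega

end Cfsg.Agent.Lib.Cusp48
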