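import Cfsg.Agent.Lib.BrauerChar.Main
import Cfsg.Agent.Lib.Cusp48.Basic

/-!
# The lifted trace of the natural representation is a generalized character
-/

set_option autoImplicit false
set_option linter.unusedSectionVars false
set_option linter.style.haveILetI false
set_option synthInstance.maxHeartbeats 100000

namespace Cfsg.Agent.Lib.Cusp48

open Polynomial Cfsg.Agent.Lib.BrauerChar
open scoped MatrixGroups

attribute [local instance] Ideal.Quotient.field

variable {M : Ideal Cfsg.AlgInt} [M.IsMaximal] {p : ℕ} [Fact p.Prime]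

/-- The lift of a residue. -/
noncomputable def tau (M : Ideal Cfsg.AlgInt) (p : ℕ) (x : Rk M) : ℂ := (teichA M p x : ℂ)

theorem charP_residue (hM : Cfsg.IsPModular p M) : CharP (Rk M) p := by
  refine (CharP.charP_iff_prime_eq_zero hM.1).2 ?_
  have h : (Ideal.Quotient.mk M (p : Cfsg.AlgInt) : Rk M) = 0 :=
    Ideal.Quotient.eq_zero_iff_mem.2 hM.2.2
  rwa [map_natCast] at h

theorem exists_embedding (hM : Cfsg.IsPModular p M) (F : Type*) [Field F] [Finite F] [CharP F p] :
    Nonempty (F →+* Rk M) := by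
  haveI := charP_residue hM
  haveI := Cfsg.Agent.Lib.Blocks.isAlgClosed_residueField (M := M)
  letI : Algebra (ZMod p) F := ZMod.algebra F p
  letI : Algebra (ZMod p) (Rk M) := ZMod.algebra (Rk M) p
  haveI : Algebra.IsAlgebraic (ZMod p) F := Algebra.IsAlgebraic.of_finite (ZMod p) F
  exact ⟨(IsAlgClosed.lift : F →ₐ[ZMod p] Rk M).toRingHom⟩

variable {F : Type*} [Field F] [Fintype F] [CharP F p] [DecidableEq F]

/-- The lifted trace is a generalized character. -/
theorem isGen_rsum (hM : Cfsg.IsPModular p M) (ι : F →+* Rk M) (n : ℕ) :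
    Cfsg.IsGeneralizedCharacter (GL (Fin n) F)
      fun g => rsum ι (tau M p) ((g : Matrix (Fin n) (Fin n) F).charpoly) := by
  classical
  set G := GL (Fin n) F
  let A : G →* Matrix (Fin n) (Fin n) (Rk M) :=
    (ι.mapMatrix.toMonoidHom).comp (Units.coeHom (Matrix (Fin n) (Fin n) F))
  obtain ⟨a, -, ha⟩ := FiniteField.card F p
  set i := (Nat.card G).factorization p with hi
  set m := p ^ i with hm
  set N := Nat.card G / p ^ i with hN
  have hmN : Nat.card G = m * N := (Nat.ordProj_mul_ordCompl_eq_self _ p).symm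
  have hpN : ¬ p ∣ N := Nat.not_dvd_ordCompl Fact.out Nat.card_pos.ne'
  have hcop : p.Coprime N := (Fact.out : p.Prime).coprime_iff_not_dvd.2 hpN
  have hN0 : 0 < N := Nat.pos_of_ne_zero fun h => hpN (h ▸ dvd_zero p)
  set k := Fintype.card F ^ (Nat.totient N * i) with hk
  have hk1 : k ≡ 1 [MOD N] := by
    have h1 : (Fintype.card F ^ i) ^ Nat.totient N ≡ 1 [MOD N] :=
      Nat.ModEq.pow_totient (by rw [ha, ← pow_mul]; exact hcop.pow_left _)
    rwa [hk, mul_comm, pow_mul]
  have hk0 : k ≡ 0 [MOD m] := by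
    rw [Nat.modEq_zero_iff_dvd, hk, ha, hm, ← pow_mul]
    refine pow_dvd_pow p ?_
    calc i = 1 * (1 * i) := by ring
      _ ≤ (a : ℕ) * (Nat.totient N * i) :=
        Nat.mul_le_mul a.pos (Nat.mul_le_mul (Nat.totient_pos.2 hN0) le_rfl)
  have hreg : ∀ g : G, ¬ p ∣ orderOf (g ^ k) := by
    intro g hd
    refine hpN (hd.trans ?_)
    rw [orderOf_dvd_iff_pow_eq_one, ← pow_mul, ← orderOf_dvd_iff_pow_eq_one]
    exact (orderOf_dvd_natCard g).trans
      (hmN ▸ mul_dvd_mul_right (Nat.modEq_zero_iff_dvd.1 hk0) N)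
  have hcp : ∀ (j : ℕ) (B : Matrix (Fin n) (Fin n) F),
      (B ^ Fintype.card F ^ j).charpoly = B.charpoly := by
    intro j
    induction j with
    | zero => intro B; rw [pow_zero, pow_one]
    | succ j ih => intro B; rw [pow_succ', pow_mul, ih, FiniteField.Matrix.charpoly_pow_card]
  have hL : ∀ g : G, rsum ι (tau M p) ((g : Matrix (Fin n) (Fin n) F).charpoly) =
      bchar p A (g ^ k) := by
    intro g
    rw [bchar_regular A (hreg g)]
    have h1 : A (g ^ k) = ((g : Matrix (Fin n) (Fin n) F) ^ k).map ι := by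
      show ι.mapMatrix (((g ^ k : G) : Matrix (Fin n) (Fin n) F)) = _
      rw [Units.val_pow_eq_pow_val]
      rfl
    rw [h1, Matrix.charpoly_map, hk, hcp, rsum,
      show ((((g : Matrix (Fin n) (Fin n) F).charpoly.map ι).roots.map (teichA M p)).sum : Cfsg.AlgInt) =
        _ from rfl]
    rw [show (((((g : Matrix (Fin n) (Fin n) F).charpoly.map ι).roots.map (teichA M p)).sum :
      Cfsg.AlgInt) : ℂ) = Subalgebra.val _
        ((((g : Matrix (Fin n) (Fin n) F).charpoly.map ι).roots.map (teichA M p)).sum) from rfl,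
      map_multiset_sum, Multiset.map_map]
    rfl
  obtain ⟨s, hs, -⟩ := decompose hM A
  have h : (fun g : G => rsum ι (tau M p) ((g : Matrix (Fin n) (Fin n) F).charpoly)) =
      (s.map fun f => fun g : G => f.1 (g ^ k)).sum := by
    funext g
    rw [hL g, hs, Pi.multiset_sum_apply, Pi.multiset_sum_apply, Multiset.map_map, Multiset.map_map]
    rfl
  rw [h]
  refine Multiset.sum_induction _ _ (fun _ _ => Induced.Generalized.isGen_add)
    Induced.Generalized.isGen_zero ?_
  intro φ hφ
  obtain ⟨f, -, rfl⟩ := Multiset.mem_map.1 hφ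
  exact isGeneralized_comp_pow hM f hmN ⟨i, hm⟩ hpN hk0 hk1

end Cfsg.Agent.Lib.Cusp48
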