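import Cfsg.Agent.Lib.Cusp48.Simple
import Cfsg.Agent.Lib.Cusp48.Lift
import Mathlib.FieldTheory.Finite.Extension

/-!
# The roots in the extension of degree `n` and the lifted character of its unit group
-/

set_option autoImplicit false
set_option linter.unusedSectionVars false
set_option linter.style.haveILetI false
set_option synthInstance.maxHeartbeats 100000

namespace Cfsg.Agent.Lib.Cusp48

open Module Polynomial Cfsg.Agent.Lib.BrauerChar
open scoped Classical ComplexConjugate

attribute [local instance] Ideal.Quotient.field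

universe v

/-- A primary endomorphism killed by `f`. -/
theorem charpoly_of_aeval_zero {F : Type*} [Field F] [Finite F] {f : F[X]} (hf : Irreducible f)
    (hfm : f.Monic) (m : ℕ) : ∀ {V : Type v} [AddCommGroup V] [Module F V] [FiniteDimensional F V]
      (φ : Module.End F V), finrank F V = m → aeval φ f = 0 → ∃ a, φ.charpoly = f ^ a := by
  induction m using Nat.strong_induction_on with
  | _ m ih =>
  intro V _ _ _ φ hm h0
  by_cases hm0 : m = 0
  · exact ⟨0, by rw [pow_zero, φ.charpoly_monic.natDegree_eq_zero.1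
      (by rw [LinearMap.charpoly_natDegree, hm, hm0])]⟩
  haveI : Nontrivial V := Module.nontrivial_of_finrank_pos (R := F) (by omega)
  haveI : Finite V := Module.finite_of_finite F
  haveI : Finite (Submodule F V) := Finite.of_injective _ SetLike.coe_injective
  letI : Fintype (Submodule F V) := Fintype.ofFinite _
  obtain ⟨S, hS', hmin⟩ := Finset.exists_min_image
    (Finset.univ.filter fun W : Submodule F V => W ≠ ⊥ ∧ W ≤ W.comap φ) (fun W => finrank F W)
    ⟨⊤, by simp⟩
  obtain ⟨-, hS0, hS⟩ := Finset.mem_filter.1 hS'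
  have hs : IsSimpleSub φ S := ⟨hS0, fun U hU hUi => or_iff_not_imp_left.2 fun hU0 =>
    Submodule.eq_of_le_of_finrank_le hU (hmin U (Finset.mem_filter.2 ⟨Finset.mem_univ _, hU0, hUi⟩))⟩
  obtain ⟨g, hgi, hgm, hdim, hcp, hg0⟩ := hs.exists_charpoly hS
  have hfS : aeval (φ.restrict hS) f = 0 := LinearMap.ext fun x => Subtype.ext (by
    have h := LinearMap.congr_fun (equi_aeval (subtype_mem_Equi hS) f) x
    simp only [LinearMap.comp_apply, Submodule.subtype_apply] at h
    rw [h, h0]; rfl)
  have hgf : g = f := by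
    by_contra hne
    obtain ⟨a, b, hab⟩ := (hgi.coprime_iff_not_dvd).2 fun h => hne
      (eq_of_monic_of_associated hgm hfm (hgi.associated_of_dvd hf h))
    have h1 := congrArg (aeval (φ.restrict hS)) hab
    rw [map_add, map_mul, map_mul, hg0, hfS, mul_zero, mul_zero, add_zero, map_one] at h1
    haveI : Nontrivial S := Submodule.nontrivial_iff_ne_bot.2 hS0
    exact zero_ne_one h1
  have hQ : aeval (S.mapQ S φ hS) f = 0 := Submodule.linearMap_qext _ (LinearMap.ext fun x => by
    have h := LinearMap.congr_fun (equi_aeval (mkQ_mem_Equi hS) f) x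
    simp only [LinearMap.comp_apply] at h ⊢
    rw [← h, h0]
    simp)
  have hlt : finrank F (V ⧸ S) < m := by
    have := Submodule.finrank_quotient_add_finrank S
    have := hgi.natDegree_pos
    omega
  obtain ⟨a, ha⟩ := ih _ hlt (V := V ⧸ S) _ rfl hQ
  exact ⟨a + 1, by rw [charpoly_eq_mul hS, hcp, ha, hgf, pow_succ, mul_comm]⟩

variable {M : Ideal Cfsg.AlgInt} [M.IsMaximal] {p : ℕ} [Fact p.Prime]

theorem teichA_spec (hM : Cfsg.IsPModular p M) {x : Rk M} (hx : x ≠ 0) :
    ∃ m : ℕ, ¬ p ∣ m ∧ ((teichA M p x : Cfsg.AlgInt) : ℂ) ^ m = 1 := by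
  by_cases h : ∃ ε : Cfsg.AlgInt, (∃ m : ℕ, ¬ p ∣ m ∧ (ε : ℂ) ^ m = 1) ∧ Ideal.Quotient.mk M ε = x
  · rw [teichA, dif_pos h]
    exact h.choose_spec.1
  · refine absurd ?_ hx
    rw [← mk_teichA hM x, teichA, dif_neg h, map_zero]

theorem tau_one (hM : Cfsg.IsPModular p M) : tau M p (1 : Rk M) = 1 := by
  have h := teichA_mk hM (ε := (1 : Cfsg.AlgInt)) (m := 1) hM.1.not_dvd_one (by simp)
  rw [map_one] at h
  rw [tau, h]
  rfl

theorem tau_mul (hM : Cfsg.IsPModular p M) {x y : Rk M} (hx : x ≠ 0) (hy : y ≠ 0) :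
    tau M p (x * y) = tau M p x * tau M p y := by
  obtain ⟨a, ha, ha1⟩ := teichA_spec hM hx
  obtain ⟨b, hb, hb1⟩ := teichA_spec hM hy
  have h := teichA_mk hM (ε := teichA M p x * teichA M p y) (m := a * b)
    (fun h => (hM.1.dvd_mul.1 h).elim ha hb) (by
      push_cast
      rw [mul_pow, pow_mul, ha1, one_pow, one_mul, mul_comm a, pow_mul, hb1, one_pow])
  rw [map_mul, mk_teichA hM, mk_teichA hM] at h
  rw [tau, h]
  rfl

theorem tau_injective (hM : Cfsg.IsPModular p M) : Function.Injective (tau M p) := fun x y h => by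
  rw [← mk_teichA hM x, ← mk_teichA hM y, show teichA M p x = teichA M p y from Subtype.ext h]

variable {F : Type*} [Field F] [Fintype F]
  {E : Type*} [Field E] [Fintype E] [Algebra F E] [FiniteDimensional F E] (j : E →+* Rk M)

/-- The lifted character of the units. -/
noncomputable def theta (hM : Cfsg.IsPModular p M) : Eˣ →* ℂ where
  toFun t := tau M p (j t)
  map_one' := by rw [Units.val_one, map_one, tau_one hM]
  map_mul' a b := by
    rw [Units.val_mul, map_mul, tau_mul hM]
    · exact (map_ne_zero j).2 a.ne_zero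
    · exact (map_ne_zero j).2 b.ne_zero

theorem theta_injective (hM : Cfsg.IsPModular p M) : Function.Injective (theta j hM) := fun a b h =>
  Units.ext (j.injective (tau_injective hM h))

theorem minpoly_ne_X (t : Eˣ) : minpoly F (t : E) ≠ Polynomial.X := fun h => by
  have h1 := minpoly.aeval F (t : E)
  rw [h, aeval_X] at h1
  exact t.ne_zero h1

/-- The multiplication by an element. -/
noncomputable def mulT (t : E) : Module.End F E := Algebra.lmul F E t

theorem charpoly_mulT (t : E) :
    (mulT (F := F) t).charpoly = (minpoly F t) ^ (finrank F E / (minpoly F t).natDegree) ∧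
      aeval (mulT (F := F) t) (minpoly F t) = 0 := by
  have hi : IsIntegral F t := IsIntegral.of_finite F t
  have h0 : aeval (mulT (F := F) t) (minpoly F t) = 0 := by
    rw [mulT, aeval_algHom_apply, minpoly.aeval, map_zero]
  obtain ⟨a, ha⟩ := charpoly_of_aeval_zero (minpoly.irreducible hi) (minpoly.monic hi) _
    (mulT (F := F) t) rfl h0
  refine ⟨?_, h0⟩
  have h1 := congrArg natDegree ha
  rw [LinearMap.charpoly_natDegree, natDegree_pow] at h1
  rw [ha, h1, Nat.mul_div_cancel _ (minpoly.irreducible hi).natDegree_pos]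

variable (M p) in
/-- The sum of the lifts of the conjugates. -/
noncomputable def orb (t : E) : ℂ := ∑ σ : E ≃ₐ[F] E, tau M p (j (σ t))

theorem roots_minpoly (t : E) :
    ((minpoly F t).map (algebraMap F E)).roots.Nodup ∧
    ((minpoly F t).map (algebraMap F E)).roots.card = (minpoly F t).natDegree := by
  have hi : IsIntegral F t := IsIntegral.of_finite F t
  haveI : PerfectField F := PerfectField.ofFinite
  have hsep := PerfectField.separable_of_irreducible (minpoly.irreducible hi)
  refine ⟨nodup_roots hsep.map, ?_⟩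
  rw [← natDegree_map_eq_of_injective (algebraMap F E).injective]
  exact ((Normal.splits (inferInstance : Normal F E) t).natDegree_eq_card_roots).symm

theorem orb_eq (t : E) :
    orb (F := F) M p j t = (finrank F E / (minpoly F t).natDegree : ℕ) *
      rsum (j.comp (algebraMap F E)) (tau M p) (minpoly F t) := by
  have hi : IsIntegral F t := IsIntegral.of_finite F t
  obtain ⟨hnd, hcard⟩ := roots_minpoly (F := F) t
  set d := (minpoly F t).natDegree with hd
  have hd0 : 0 < d := (minpoly.irreducible hi).natDegree_pos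
  set R := ((minpoly F t).map (algebraMap F E)).roots.toFinset with hR
  have hRcard : R.card = d := by rw [hR, Multiset.toFinset_card_of_nodup hnd, hcard]
  have hmap : ∀ σ : E ≃ₐ[F] E, σ t ∈ R := fun σ => by
    rw [hR, Multiset.mem_toFinset, mem_roots (map_monic_ne_zero (minpoly.monic hi)), IsRoot, eval_map,
      ← aeval_def, aeval_algHom_apply, minpoly.aeval, map_zero]
  have hfib : ∀ y ∈ R, (Finset.univ.filter fun σ : E ≃ₐ[F] E => σ t = y).card =
      (Finset.univ.filter fun σ : E ≃ₐ[F] E => σ t = t).card := by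
    intro y hy
    rw [hR, Multiset.mem_toFinset, mem_roots (map_monic_ne_zero (minpoly.monic hi)), IsRoot, eval_map,
      ← aeval_def] at hy
    obtain ⟨σ₀, hσ₀⟩ := minpoly.exists_algEquiv_of_root' (L := E) hi.isAlgebraic hy
    refine Finset.card_nbij' (fun σ => σ.trans σ₀.symm) (fun σ => σ.trans σ₀) ?_ ?_ ?_ ?_
    · intro σ hσ
      rw [Finset.mem_coe, Finset.mem_filter] at hσ ⊢
      exact ⟨Finset.mem_univ _, by rw [AlgEquiv.trans_apply, hσ.2, AlgEquiv.symm_apply_eq, hσ₀]⟩
    · intro σ hσ
      rw [Finset.mem_coe, Finset.mem_filter] at hσ ⊢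
      exact ⟨Finset.mem_univ _, by rw [AlgEquiv.trans_apply, hσ.2, hσ₀]⟩
    · intro σ _; ext; simp
    · intro σ _; ext; simp
  set c := (Finset.univ.filter fun σ : E ≃ₐ[F] E => σ t = t).card
  have hgal : Fintype.card (E ≃ₐ[F] E) = finrank F E := by
    rw [Fintype.card_eq_nat_card, IsGalois.card_aut_eq_finrank]
  have hn : finrank F E = d * c := by
    rw [← hgal, ← Finset.card_univ, Finset.card_eq_sum_card_fiberwise (fun σ _ => hmap σ),
      Finset.sum_congr rfl hfib, Finset.sum_const, hRcard, smul_eq_mul]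
  rw [hn, Nat.mul_div_cancel_left _ hd0, orb,
    ← Finset.sum_fiberwise_of_maps_to (fun σ _ => hmap σ)]
  rw [Finset.sum_congr rfl fun y hy => by
    rw [Finset.sum_congr rfl fun σ hσ => by rw [(Finset.mem_filter.1 hσ).2], Finset.sum_const, hfib y hy,
      nsmul_eq_mul], ← Finset.mul_sum]
  congr 1
  rw [rsum, ← Polynomial.map_map, ← roots_map_of_injective_of_card_eq_natDegree j.injective
      (by rw [hcard, natDegree_map_eq_of_injective (algebraMap F E).injective]), Multiset.map_map,
    hR, Finset.sum, Multiset.toFinset_val, Multiset.dedup_eq_self.2 hnd]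
  rfl

/-- Sum over the units with a given minimal polynomial. -/
theorem sum_roots_conj (hM : Cfsg.IsPModular p M) (t₀ : Eˣ) :
    ∑ t ∈ Finset.univ.filter (fun t : Eˣ => minpoly F (t : E) = minpoly F (t₀ : E)),
      conj (theta j hM t) =
    conj (rsum (j.comp (algebraMap F E)) (tau M p) (minpoly F (t₀ : E))) := by
  have hi : IsIntegral F (t₀ : E) := IsIntegral.of_finite F _
  obtain ⟨hnd, hcard⟩ := roots_minpoly (F := F) (t₀ : E)
  rw [← map_sum]
  congr 1
  rw [rsum, ← Polynomial.map_map, ← roots_map_of_injective_of_card_eq_natDegree j.injective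
      (by rw [hcard, natDegree_map_eq_of_injective (algebraMap F E).injective]), Multiset.map_map]
  rw [show ((((minpoly F (t₀ : E)).map (algebraMap F E)).roots).map (tau M p ∘ j)).sum =
    ∑ y ∈ ((minpoly F (t₀ : E)).map (algebraMap F E)).roots.toFinset, tau M p (j y) by
      rw [Finset.sum, Multiset.toFinset_val, Multiset.dedup_eq_self.2 hnd]; rfl]
  refine Finset.sum_bij (fun t _ => (t : E)) ?_ (fun a _ b _ h => Units.ext h) ?_ (fun t _ => rfl)
  · intro t ht
    rw [Finset.mem_filter] at ht
    rw [Multiset.mem_toFinset, mem_roots (map_monic_ne_zero (minpoly.monic hi)), IsRoot, eval_map,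
      ← aeval_def, ← ht.2, minpoly.aeval]
  · intro y hy
    rw [Multiset.mem_toFinset, mem_roots (map_monic_ne_zero (minpoly.monic hi)), IsRoot, eval_map,
      ← aeval_def] at hy
    have hmin : minpoly F y = minpoly F (t₀ : E) :=
      (minpoly.eq_of_irreducible_of_monic (minpoly.irreducible hi) hy (minpoly.monic hi)).symm
    have hy0 : y ≠ 0 := by
      rintro rfl
      exact minpoly_ne_X (F := F) t₀ (by rw [← hmin, minpoly.zero])
    exact ⟨Units.mk0 y hy0, Finset.mem_filter.2 ⟨Finset.mem_univ _, hmin⟩, rfl⟩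

/-- Every polynomial of degree dividing the degree of the extension occurs. -/
theorem exists_unit_minpoly {f : F[X]} (hf : Irreducible f) (hfm : f.Monic) (hX : f ≠ Polynomial.X)
    (hd : f.natDegree ∣ finrank F E) : ∃ t : Eˣ, minpoly F (t : E) = f := by
  haveI : Fact (Irreducible f) := ⟨hf⟩
  haveI : Module.Finite F (AdjoinRoot f) := (AdjoinRoot.powerBasis hf.ne_zero).finite
  haveI : Finite (AdjoinRoot f) := Module.finite_of_finite F
  obtain ⟨φ⟩ := FiniteField.nonempty_algHom_of_finrank_dvd (F := F) (K := AdjoinRoot f) (L := E)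
    (by rwa [(AdjoinRoot.powerBasis hf.ne_zero).finrank, AdjoinRoot.powerBasis_dim])
  have hy : aeval (φ (AdjoinRoot.root f)) f = 0 := by
    rw [aeval_algHom_apply, AdjoinRoot.aeval_eq, AdjoinRoot.mk_self, map_zero]
  have hm : minpoly F (φ (AdjoinRoot.root f)) = f :=
    (minpoly.eq_of_irreducible_of_monic hf hy hfm).symm
  have h0 : φ (AdjoinRoot.root f) ≠ 0 := fun h => hX (by rw [← hm, h, minpoly.zero])
  exact ⟨Units.mk0 _ h0, hm⟩

/-- Orthogonality of the characters of the units. -/
theorem sum_theta (hM : Cfsg.IsPModular p M) (a b : ℕ) (σ : E ≃ₐ[F] E) :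
    ∑ t : Eˣ, (theta j hM (Units.map σ.toAlgHom.toRingHom.toMonoidHom t)) ^ a *
        conj (theta j hM t) ^ b =
      if (∀ t : Eˣ, (Units.map σ.toAlgHom.toRingHom.toMonoidHom t) ^ a = t ^ b) then
        (Fintype.card Eˣ : ℂ) else 0 := by
  let f : Eˣ →* ℂ :=
    { toFun := fun t => theta j hM ((Units.map σ.toAlgHom.toRingHom.toMonoidHom t) ^ a * (t ^ b)⁻¹)
      map_one' := by simp
      map_mul' := fun x y => by
        rw [← map_mul]
        congr 1
        rw [map_mul, mul_pow, mul_pow, mul_inv]
        exact mul_mul_mul_comm _ _ _ _ }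
  have hconj : ∀ t : Eˣ, conj (theta j hM t) = theta j hM t⁻¹ := by
    intro t
    have h1 : theta j hM t ^ Fintype.card Eˣ = 1 := by rw [← map_pow, pow_card_eq_one, map_one]
    rw [← Complex.inv_eq_conj (Complex.norm_eq_one_of_pow_eq_one h1 Fintype.card_ne_zero)]
    exact inv_eq_of_mul_eq_one_right (by rw [← map_mul, mul_inv_cancel, map_one])
  have hf : ∀ t : Eˣ, theta j hM (Units.map σ.toAlgHom.toRingHom.toMonoidHom t) ^ a *
      conj (theta j hM t) ^ b = f t := fun t => by
    show theta j hM (Units.map σ.toAlgHom.toRingHom.toMonoidHom t) ^ a * conj (theta j hM t) ^ b =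
      theta j hM ((Units.map σ.toAlgHom.toRingHom.toMonoidHom t) ^ a * (t ^ b)⁻¹)
    rw [hconj, map_mul, map_pow (theta j hM), ← inv_pow, map_pow (theta j hM)]
  rw [Finset.sum_congr rfl fun t _ => hf t]
  split_ifs with h
  · rw [Finset.sum_congr rfl fun t _ => show f t = 1 by
      show theta j hM _ = 1
      rw [h t, mul_inv_cancel, map_one], Finset.sum_const, Finset.card_univ, nsmul_eq_mul, mul_one]
  · refine sum_hom_units_eq_zero f fun hf1 => h fun t => ?_
    have h1 : theta j hM ((Units.map σ.toAlgHom.toRingHom.toMonoidHom t) ^ a * (t ^ b)⁻¹) =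
        theta j hM 1 := by
      rw [map_one]; exact DFunLike.congr_fun hf1 t
    exact mul_inv_eq_one.1 (theta_injective j hM h1)

end Cfsg.Agent.Lib.Cusp48
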