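import Cfsg.Agent.Lib.Cusp48.Count

/-!
# Equivariant maps between spaces killed by an irreducible polynomial
-/

set_option autoImplicit false
set_option linter.unusedSectionVars false
set_option linter.style.haveILetI false

namespace Cfsg.Agent.Lib.Cusp48

open Module Polynomial

variable {F : Type*} [Field F]

/-- The maps commuting with the two endomorphisms. -/
def Equi {A B : Type*} [AddCommGroup A] [Module F A] [AddCommGroup B] [Module F B]
    (φA : Module.End F A) (φB : Module.End F B) : Submodule F (A →ₗ[F] B) where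
  carrier := {δ | δ ∘ₗ φA = φB ∘ₗ δ}
  add_mem' {x y} hx hy := by
    show (x + y) ∘ₗ φA = φB ∘ₗ (x + y)
    rw [LinearMap.add_comp, LinearMap.comp_add, hx, hy]
  zero_mem' := by
    show (0 : A →ₗ[F] B) ∘ₗ φA = φB ∘ₗ 0
    rw [LinearMap.zero_comp, LinearMap.comp_zero]
  smul_mem' c x hx := by
    show (c • x) ∘ₗ φA = φB ∘ₗ (c • x)
    rw [LinearMap.smul_comp, LinearMap.comp_smul, hx]

theorem mem_Equi {A B : Type*} [AddCommGroup A] [Module F A] [AddCommGroup B] [Module F B]
    {φA : Module.End F A} {φB : Module.End F B} {δ : A →ₗ[F] B} :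
    δ ∈ Equi φA φB ↔ δ ∘ₗ φA = φB ∘ₗ δ := Iff.rfl

theorem equi_aeval {A B : Type*} [AddCommGroup A] [Module F A] [AddCommGroup B] [Module F B]
    {φA : Module.End F A} {φB : Module.End F B} {δ : A →ₗ[F] B} (h : δ ∈ Equi φA φB) (P : F[X]) :
    δ ∘ₗ aeval φA P = aeval φB P ∘ₗ δ := by
  induction P using Polynomial.induction_on with
  | C a => ext x; simp
  | add P Q hP hQ => rw [map_add, map_add, LinearMap.comp_add, LinearMap.add_comp, hP, hQ]
  | monomial n a ih =>
    rw [pow_succ, ← mul_assoc, map_mul _ _ X, map_mul _ _ X, aeval_X, aeval_X, Module.End.mul_eq_comp,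
      Module.End.mul_eq_comp, ← LinearMap.comp_assoc, ih, LinearMap.comp_assoc, mem_Equi.1 h,
      LinearMap.comp_assoc]

section Scalars

variable {f : F[X]}

/-- The action of the residue field of `f`. -/
noncomputable def act {A : Type*} [AddCommGroup A] [Module F A] (φA : Module.End F A)
    (h : aeval φA f = 0) : AdjoinRoot f →ₐ[F] Module.End F A :=
  Ideal.Quotient.liftₐ (Ideal.span {f}) (aeval φA) fun a ha => by
    obtain ⟨c, rfl⟩ := Ideal.mem_span_singleton'.1 ha
    rw [map_mul, h, mul_zero]

theorem act_mk {A : Type*} [AddCommGroup A] [Module F A] (φA : Module.End F A) (h : aeval φA f = 0)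
    (P : F[X]) : act φA h (AdjoinRoot.mk f P) = aeval φA P := rfl

variable [Finite F] (hf : Irreducible f)
include hf

theorem card_adjoinRoot : Nat.card (AdjoinRoot f) = Nat.card F ^ f.natDegree := by
  haveI : Module.Finite F (AdjoinRoot f) := (AdjoinRoot.powerBasis hf.ne_zero).finite
  rw [Module.natCard_eq_pow_finrank (K := F), (AdjoinRoot.powerBasis hf.ne_zero).finrank,
    AdjoinRoot.powerBasis_dim]

variable {A B : Type*} [AddCommGroup A] [Module F A] [FiniteDimensional F A]
  [AddCommGroup B] [Module F B] [FiniteDimensional F B]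
  {φA : Module.End F A} {φB : Module.End F B} (hA : aeval φA f = 0) (hB : aeval φB f = 0)

/-- The degree divides the dimension. -/
theorem natDegree_dvd_finrank (hA : aeval φA f = 0) : f.natDegree ∣ finrank F A := by
  haveI : Fact (Irreducible f) := ⟨hf⟩
  letI : Module (AdjoinRoot f) A := Module.compHom A (act φA hA).toRingHom
  haveI : IsScalarTower F (AdjoinRoot f) A := ⟨fun c k x => by
    show act φA hA (c • k) x = c • act φA hA k x
    rw [map_smul]; rfl⟩
  refine ⟨finrank (AdjoinRoot f) A, ?_⟩
  rw [← Module.finrank_mul_finrank F (AdjoinRoot f) A, (AdjoinRoot.powerBasis hf.ne_zero).finrank,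
    AdjoinRoot.powerBasis_dim]

/-- An invariant subspace has an invariant complement. -/
theorem exists_invariant_compl (hA : aeval φA f = 0) (S : Submodule F A)
    (hS : S ≤ S.comap φA) : ∃ C : Submodule F A, C ≤ C.comap φA ∧ IsCompl S C := by
  haveI : Fact (Irreducible f) := ⟨hf⟩
  letI : Module (AdjoinRoot f) A := Module.compHom A (act φA hA).toRingHom
  haveI : IsScalarTower F (AdjoinRoot f) A := ⟨fun c k x => by
    show act φA hA (c • k) x = c • act φA hA k x
    rw [map_smul]; rfl⟩
  have hSP : ∀ (P : F[X]) (x : A), x ∈ S → aeval φA P x ∈ S := by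
    intro P
    induction P using Polynomial.induction_on with
    | C a => intro x hx; rw [aeval_C]; exact S.smul_mem a hx
    | add P Q hP hQ => intro x hx; rw [map_add]; exact S.add_mem (hP x hx) (hQ x hx)
    | monomial n a ih =>
      intro x hx
      rw [pow_succ, ← mul_assoc, map_mul, aeval_X]
      exact ih _ (hS hx)
  let S' : Submodule (AdjoinRoot f) A :=
    { carrier := S
      add_mem' := S.add_mem
      zero_mem' := S.zero_mem
      smul_mem' := fun k x hx => by
        obtain ⟨P, rfl⟩ := AdjoinRoot.mk_surjective k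
        exact hSP P x hx }
  obtain ⟨C', hC⟩ := Submodule.exists_isCompl S'
  refine ⟨C'.restrictScalars F, fun x hx => ?_, ?_⟩
  · have h1 : (AdjoinRoot.mk f X) • x ∈ C' := C'.smul_mem _ hx
    have h2 : (AdjoinRoot.mk f X) • x = φA x := by
      show act φA hA (AdjoinRoot.mk f X) x = φA x
      rw [act_mk, aeval_X]
    rw [h2] at h1
    exact h1
  · constructor
    · rw [Submodule.disjoint_def]
      intro x hx hx'
      exact Submodule.disjoint_def.1 hC.1 x hx hx'
    · rw [codisjoint_iff, eq_top_iff]
      intro x _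
      obtain ⟨a, ha, b, hb, rfl⟩ := Submodule.mem_sup.1 (show x ∈ S' ⊔ C' by
        rw [hC.2.eq_top]; exact Submodule.mem_top)
      exact Submodule.add_mem_sup ha hb

include hA hB

/-- The vanishing sum over equivariant maps, and their number. -/
theorem equi_count [Fintype (Equi φA φB)] :
    Nat.card (Equi φA φB) =
      (Nat.card F ^ f.natDegree) ^ (finrank F A / f.natDegree * (finrank F B / f.natDegree)) ∧
    (0 < finrank F A → 0 < finrank F B →
      ∑ δ : Equi φA φB, Phi ((Nat.card F : ℂ) ^ f.natDegree)
        ((finrank F A + finrank F B - finrank F (LinearMap.range (δ : A →ₗ[F] B))) / f.natDegree) = 0) := by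
  classical
  haveI : Fact (Irreducible f) := ⟨hf⟩
  haveI : Module.Finite F (AdjoinRoot f) := (AdjoinRoot.powerBasis hf.ne_zero).finite
  haveI : Finite (AdjoinRoot f) := Module.finite_of_finite F
  letI : Fintype (AdjoinRoot f) := Fintype.ofFinite _
  letI : Module (AdjoinRoot f) A := Module.compHom A (act φA hA).toRingHom
  letI : Module (AdjoinRoot f) B := Module.compHom B (act φB hB).toRingHom
  haveI : IsScalarTower F (AdjoinRoot f) A := ⟨fun c k x => by
    show act φA hA (c • k) x = c • act φA hA k x
    rw [map_smul]; rfl⟩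
  haveI : IsScalarTower F (AdjoinRoot f) B := ⟨fun c k x => by
    show act φB hB (c • k) x = c • act φB hB k x
    rw [map_smul]; rfl⟩
  haveI : Module.Finite (AdjoinRoot f) A := Module.Finite.of_restrictScalars_finite F _ _
  haveI : Module.Finite (AdjoinRoot f) B := Module.Finite.of_restrictScalars_finite F _ _
  haveI : Finite A := Module.finite_of_finite F
  haveI : Finite B := Module.finite_of_finite F
  letI : Fintype B := Fintype.ofFinite B
  haveI : Finite (A →ₗ[AdjoinRoot f] B) := Finite.of_injective _ DFunLike.coe_injective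
  letI : Fintype (A →ₗ[AdjoinRoot f] B) := Fintype.ofFinite _
  have hd : finrank F (AdjoinRoot f) = f.natDegree := by
    rw [(AdjoinRoot.powerBasis hf.ne_zero).finrank, AdjoinRoot.powerBasis_dim]
  have hd0 : 0 < f.natDegree := hf.natDegree_pos
  let e : Equi φA φB ≃ (A →ₗ[AdjoinRoot f] B) :=
    { toFun := fun δ =>
        { toFun := δ.1
          map_add' := map_add δ.1
          map_smul' := fun k x => by
            obtain ⟨P, rfl⟩ := AdjoinRoot.mk_surjective k
            exact LinearMap.congr_fun (equi_aeval δ.2 P) x }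
      invFun := fun δ => ⟨δ.restrictScalars F, by
        refine mem_Equi.2 (LinearMap.ext fun x => ?_)
        have h := δ.map_smul (AdjoinRoot.mk f X) x
        change δ (act φA hA (AdjoinRoot.mk f X) x) = act φB hB (AdjoinRoot.mk f X) (δ x) at h
        rw [act_mk, act_mk, aeval_X, aeval_X] at h
        exact h⟩
      left_inv := fun δ => rfl
      right_inv := fun δ => rfl }
  have hAd : finrank F A = f.natDegree * finrank (AdjoinRoot f) A := by
    rw [← Module.finrank_mul_finrank F (AdjoinRoot f) A, hd]
  have hBd : finrank F B = f.natDegree * finrank (AdjoinRoot f) B := by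
    rw [← Module.finrank_mul_finrank F (AdjoinRoot f) B, hd]
  have hK : Fintype.card (AdjoinRoot f) = Nat.card F ^ f.natDegree := by
    rw [Fintype.card_eq_nat_card, card_adjoinRoot hf]
  refine ⟨?_, fun ha hb => ?_⟩
  · rw [Nat.card_congr e, Module.natCard_eq_pow_finrank (K := AdjoinRoot f), Module.finrank_linearMap,
      hAd, hBd, Nat.mul_div_cancel_left _ hd0, Nat.mul_div_cancel_left _ hd0, card_adjoinRoot hf]
  · have ha' : 1 ≤ finrank (AdjoinRoot f) A := by
      rw [hAd] at ha; exact Nat.pos_of_mul_pos_left ha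
    have hb' : 1 ≤ finrank (AdjoinRoot f) B := by
      rw [hBd] at hb; exact Nat.pos_of_mul_pos_left hb
    have h := sum_linearMap (K := AdjoinRoot f) (A := A) (B := B) ha' hb'
    rw [hK] at h
    push_cast at h
    rw [← h, ← Equiv.sum_comp e.symm]
    refine Finset.sum_congr rfl fun δ _ => ?_
    congr 1
    have hr : finrank F (LinearMap.range ((e.symm δ : Equi φA φB) : A →ₗ[F] B)) =
        f.natDegree * finrank (AdjoinRoot f) (LinearMap.range δ) := by
      rw [← hd, Module.finrank_mul_finrank]
      rfl
    rw [hr, hAd, hBd, ← Nat.mul_add, ← Nat.mul_sub, Nat.mul_div_cancel_left _ hd0]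

end Scalars

end Cfsg.Agent.Lib.Cusp48
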