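import Cfsg.Agent.Lib.Cusp48.Cuspidal

/-!
# The sum over the endomorphisms with a given characteristic polynomial
-/

set_option autoImplicit false
set_option linter.unusedSectionVars false
set_option linter.style.haveILetI false

namespace Cfsg.Agent.Lib.Cusp48

open Module Polynomial
open scoped Classical

variable {F : Type*} [Field F] [Finite F] {V : Type*} [AddCommGroup V] [Module F V]
  [FiniteDimensional F V]

/-- The evaluation at `v`. -/
noncomputable def evalV (φ : Module.End F V) (v : V) : F[X] →ₗ[F] V :=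
  (LinearMap.applyₗ v) ∘ₗ (aeval φ).toLinearMap

theorem evalV_apply (φ : Module.End F V) (v : V) (P : F[X]) : evalV φ v P = aeval φ P v := rfl

theorem cyc_invariant (φ : Module.End F V) (v : V) :
    LinearMap.range (evalV φ v) ≤ (LinearMap.range (evalV φ v)).comap φ := by
  rintro _ ⟨P, rfl⟩
  exact ⟨X * P, by rw [evalV_apply, evalV_apply, map_mul, aeval_X, Module.End.mul_apply]⟩

theorem mem_cyc (φ : Module.End F V) (v : V) : v ∈ LinearMap.range (evalV φ v) :=
  ⟨1, by rw [evalV_apply, map_one, Module.End.one_apply]⟩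

/-- On a cyclic primary space the kernel of `f` has dimension `deg f`. -/
theorem kdim_cyclic {φ : Module.End F V} {f : F[X]} (hp : Prim φ f) {v : V}
    (hv : LinearMap.range (evalV φ v) = ⊤) : kdim φ f = f.natDegree := by
  haveI : Module.Finite F (AdjoinRoot f) := (AdjoinRoot.powerBasis hp.1.ne_zero).finite
  set R := LinearMap.range (aeval φ f)
  let c : AdjoinRoot f →ₗ[F] V ⧸ R :=
    (LinearMap.applyₗ (R.mkQ v)) ∘ₗ (act _ (aeval_coker (φ := φ) f)).toLinearMap
  have hc : Function.Surjective c := fun y => by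
    obtain ⟨x, rfl⟩ := R.mkQ_surjective y
    obtain ⟨P, hP⟩ : x ∈ LinearMap.range (evalV φ v) := hv ▸ Submodule.mem_top
    refine ⟨AdjoinRoot.mk f P, ?_⟩
    show act _ (aeval_coker (φ := φ) f) (AdjoinRoot.mk f P) (R.mkQ v) = _
    rw [act_mk, ← hP, evalV_apply]
    exact (LinearMap.congr_fun (equi_aeval (mkQ_mem_Equi (range_invariant f)) P) v).symm
  have h1 := LinearMap.finrank_range_le c
  rw [LinearMap.range_eq_top.2 hc, finrank_top, (AdjoinRoot.powerBasis hp.1.ne_zero).finrank,
    AdjoinRoot.powerBasis_dim, ← kdim_eq_coker] at h1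
  exact le_antisymm h1 (Nat.le_of_dvd hp.kdim_pos (natDegree_dvd_kdim hp.1))

variable [Fintype (Module.End F V)] [DecidableEq (Module.End F V)]

/-- Only the cyclic endomorphisms count. -/
theorem sum_fibre_cyclic {f : F[X]} (hf : Irreducible f) (hfm : f.Monic) {k : ℕ} (hk : 0 < k)
    {v : V} (hv : v ≠ 0) :
    ∑ φ ∈ Finset.univ.filter (fun φ : Module.End F V => φ.charpoly = f ^ k),
        Phi ((Nat.card F : ℂ) ^ f.natDegree) (kdim φ f / f.natDegree) =
      (Nat.card {φ : Module.End F V // φ.charpoly = f ^ k ∧ LinearMap.range (evalV φ v) = ⊤} : ℂ) := by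
  classical
  letI : Fintype F := Fintype.ofFinite F
  haveI : Finite V := Module.finite_of_finite F
  haveI : Finite (Submodule F V) := Finite.of_injective _ SetLike.coe_injective
  letI : Fintype (Submodule F V) := Fintype.ofFinite _
  rw [← Finset.sum_fiberwise _ (fun φ : Module.End F V => LinearMap.range (evalV φ v)),
    Finset.sum_eq_single (⊤ : Submodule F V)]
  · have hc : Nat.card {φ : Module.End F V // φ.charpoly = f ^ k ∧ LinearMap.range (evalV φ v) = ⊤} =
        (Finset.univ.filter fun φ : Module.End F V =>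
          φ.charpoly = f ^ k ∧ LinearMap.range (evalV φ v) = ⊤).card := by
      rw [Nat.card_eq_fintype_card, Fintype.card_subtype]
    rw [hc, Finset.filter_filter, Finset.sum_congr rfl fun φ hφ => ?_, Finset.sum_const, nsmul_eq_mul,
      mul_one]
    rw [Finset.mem_filter] at hφ
    have hp : Prim φ f := ⟨hf, hfm, k, hk, hφ.2.1⟩
    rw [kdim_cyclic hp hφ.2.2, Nat.div_self hf.natDegree_pos, Phi_one]
  · intro W _ hW1
    set SW := (Finset.univ.filter (fun φ : Module.End F V => φ.charpoly = f ^ k)).filter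
      (fun φ => LinearMap.range (evalV φ v) = W) with hSW
    by_cases hne : SW = ∅
    · rw [hne, Finset.sum_empty]
    obtain ⟨φ₀, hφ₀⟩ := Finset.nonempty_of_ne_empty hne
    have hW0 : W ≠ ⊥ := by
      rw [hSW, Finset.mem_filter] at hφ₀
      intro h
      have h1 := mem_cyc φ₀ v
      rw [hφ₀.2, h] at h1
      exact hv ((Submodule.mem_bot F).1 h1)
    haveI : Finite ((V ⧸ W) →ₗ[F] W) := by
      haveI : Finite (V ⧸ W) := Module.finite_of_finite F
      exact Finite.of_injective _ DFunLike.coe_injective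
    letI : Fintype ((V ⧸ W) →ₗ[F] W) := Fintype.ofFinite _
    set G : Module.End F V → ℂ := fun φ =>
      Phi ((Nat.card F : ℂ) ^ f.natDegree) (kdim φ f / f.natDegree)
    have hinv : ∀ φ ∈ SW, W ≤ W.comap φ := fun φ hφ => by
      rw [hSW, Finset.mem_filter] at hφ
      rw [← hφ.2]
      exact cyc_invariant φ v
    have hclosed : ∀ φ ∈ SW, ∀ X : (V ⧸ W) →ₗ[F] W, pert φ X ∈ SW := by
      intro φ hφ X
      have hi := hinv φ hφ
      rw [hSW, Finset.mem_filter, Finset.mem_filter] at hφ ⊢
      refine ⟨⟨Finset.mem_univ _, by rw [pert_charpoly hi, hφ.1.2]⟩, ?_⟩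
      have hvW : v ∈ W := hφ.2 ▸ mem_cyc φ v
      have he : evalV (pert φ X) v = evalV φ v := LinearMap.ext fun P => by
        have h1 := LinearMap.congr_fun (equi_aeval (pert_subtype hi X) P) ⟨v, hvW⟩
        have h2 := LinearMap.congr_fun (equi_aeval (subtype_mem_Equi hi) P) ⟨v, hvW⟩
        simp only [LinearMap.comp_apply, Submodule.subtype_apply] at h1 h2
        rw [evalV_apply, evalV_apply, ← h1, h2]
      rw [he, hφ.2]
    have hX : ∀ X : (V ⧸ W) →ₗ[F] W, ∑ φ ∈ SW, G (pert φ X) = ∑ φ ∈ SW, G φ := by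
      intro X
      refine Finset.sum_nbij' (fun φ => pert φ X) (fun φ => pert φ (-X))
        (fun φ hφ => hclosed φ hφ X) (fun φ hφ => hclosed φ hφ (-X)) ?_ ?_ (fun φ _ => rfl)
      · intro φ _
        show pert (pert φ X) (-X) = φ
        rw [pert_pert, add_neg_cancel, pert_zero]
      · intro φ _
        show pert (pert φ (-X)) X = φ
        rw [pert_pert, neg_add_cancel, pert_zero]
    have h1 : ∑ X : (V ⧸ W) →ₗ[F] W, ∑ φ ∈ SW, G (pert φ X) = 0 := by
      rw [Finset.sum_comm]
      refine Finset.sum_eq_zero fun φ hφ => ?_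
      have hcp : φ.charpoly = f ^ k := by
        rw [hSW, Finset.mem_filter, Finset.mem_filter] at hφ; exact hφ.1.2
      exact sum_pert (hinv φ hφ) hW0 hW1 ⟨hf, hfm, k, hk, hcp⟩
    rw [Finset.sum_congr rfl fun X _ => hX X, Finset.sum_const, nsmul_eq_mul, mul_eq_zero,
      Finset.card_univ, Nat.cast_eq_zero] at h1
    exact h1.resolve_left Fintype.card_ne_zero
  · intro h
    exact absurd (Finset.mem_univ _) h

omit [Fintype (Module.End F V)] [DecidableEq (Module.End F V)] in
/-- Cyclic endomorphisms with a generator are the identifications with `F[X]/(P)`. -/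
theorem card_cyclic {P : F[X]} (hP : P.Monic) (hdim : finrank F V = P.natDegree) (v : V) :
    Nat.card {φ : Module.End F V // φ.charpoly = P ∧ LinearMap.range (evalV φ v) = ⊤} =
      Nat.card {e : AdjoinRoot P ≃ₗ[F] V // e 1 = v} := by
  haveI : Module.Finite F (AdjoinRoot P) := (AdjoinRoot.powerBasis hP.ne_zero).finite
  have hA : finrank F (AdjoinRoot P) = finrank F V := by
    rw [(AdjoinRoot.powerBasis hP.ne_zero).finrank, AdjoinRoot.powerBasis_dim, hdim]
  have hkill : ∀ φ : {φ : Module.End F V // φ.charpoly = P ∧ LinearMap.range (evalV φ v) = ⊤},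
      aeval φ.1 P = 0 := fun φ => by
    have h := φ.1.aeval_self_charpoly
    rwa [φ.2.1] at h
  let c : {φ : Module.End F V // φ.charpoly = P ∧ LinearMap.range (evalV φ v) = ⊤} →
      (AdjoinRoot P →ₗ[F] V) := fun φ => (LinearMap.applyₗ v) ∘ₗ (act φ.1 (hkill φ)).toLinearMap
  have hc : ∀ φ, Function.Bijective (c φ) := by
    intro φ
    have hs : Function.Surjective (c φ) := fun y => by
      obtain ⟨Q, hQ⟩ : y ∈ LinearMap.range (evalV φ.1 v) := by rw [φ.2.2]; exact Submodule.mem_top
      exact ⟨AdjoinRoot.mk P Q, hQ⟩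
    exact ⟨(LinearMap.injective_iff_surjective_of_finrank_eq_finrank hA).2 hs, hs⟩
  set L : Module.End F (AdjoinRoot P) := Algebra.lmul F (AdjoinRoot P) (AdjoinRoot.root P) with hL
  have hLcp : L.charpoly = P := by
    have h := charpoly_leftMulMatrix (AdjoinRoot.powerBasis hP.ne_zero)
    rw [AdjoinRoot.powerBasis_gen, AdjoinRoot.minpoly_root hP.ne_zero, hP.leadingCoeff, inv_one, map_one,
      mul_one] at h
    rw [← LinearMap.charpoly_toMatrix L (AdjoinRoot.powerBasis hP.ne_zero).basis]
    exact h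
  have hLaev : ∀ (Q : F[X]), aeval L Q 1 = AdjoinRoot.mk P Q := fun Q => by
    rw [hL, aeval_algHom_apply, AdjoinRoot.aeval_eq]
    exact mul_one _
  refine Nat.card_congr
    { toFun := fun φ => ⟨LinearEquiv.ofBijective (c φ) (hc φ), by
        show act φ.1 (hkill φ) 1 v = v
        rw [map_one, Module.End.one_apply]⟩
      invFun := fun e => ⟨e.1.conj L, ?_, ?_⟩
      left_inv := fun φ => Subtype.ext (LinearMap.ext fun x => ?_)
      right_inv := fun e => Subtype.ext (LinearEquiv.ext fun k => ?_) }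
  · rw [LinearEquiv.charpoly_conj, hLcp]
  · refine LinearMap.range_eq_top.2 fun y => ?_
    obtain ⟨Q, hQ⟩ := AdjoinRoot.mk_surjective (e.1.symm y)
    refine ⟨Q, ?_⟩
    have he : (e.1 : AdjoinRoot P →ₗ[F] V) ∈ Equi L (e.1.conj L) :=
      mem_Equi.2 (LinearMap.ext fun k => by simp [LinearEquiv.conj_apply_apply])
    have h := LinearMap.congr_fun (equi_aeval he Q) 1
    simp only [LinearMap.comp_apply, LinearEquiv.coe_coe, e.2, hLaev] at h
    rw [evalV_apply, ← h, hQ, LinearEquiv.apply_symm_apply]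
  · obtain ⟨k, rfl⟩ := (hc φ).2 x
    show (LinearEquiv.ofBijective (c φ) (hc φ)).conj L _ = _
    rw [LinearEquiv.conj_apply_apply]
    erw [LinearEquiv.symm_apply_apply]
    show act φ.1 (hkill φ) (AdjoinRoot.root P * k) v = φ.1 (act φ.1 (hkill φ) k v)
    rw [map_mul, ← AdjoinRoot.mk_X, act_mk, aeval_X, Module.End.mul_apply]
  · obtain ⟨Q, rfl⟩ := AdjoinRoot.mk_surjective k
    have he : (e.1 : AdjoinRoot P →ₗ[F] V) ∈ Equi L (e.1.conj L) :=
      mem_Equi.2 (LinearMap.ext fun k => by simp [LinearEquiv.conj_apply_apply])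
    have h := LinearMap.congr_fun (equi_aeval he Q) 1
    simp only [LinearMap.comp_apply, LinearEquiv.coe_coe, e.2, hLaev] at h
    exact h.symm

/-- The sum over a fibre. -/
theorem sum_fibre {f : F[X]} (hf : Irreducible f) (hfm : f.Monic) {k : ℕ} (hk : 0 < k)
    (hdim : finrank F V = f.natDegree * k) :
    ((Nat.card F : ℂ) ^ finrank F V - 1) *
      ∑ φ ∈ Finset.univ.filter (fun φ : Module.End F V => φ.charpoly = f ^ k),
        Phi ((Nat.card F : ℂ) ^ f.natDegree) (kdim φ f / f.natDegree) =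
      (Nat.card (V ≃ₗ[F] V) : ℂ) := by
  classical
  letI : Fintype F := Fintype.ofFinite F
  haveI : Finite V := Module.finite_of_finite F
  letI : Fintype V := Fintype.ofFinite V
  set P := f ^ k with hP
  have hPm : P.Monic := hfm.pow k
  have hPd : finrank F V = P.natDegree := by rw [hP, natDegree_pow, hdim, mul_comm]
  haveI : Module.Finite F (AdjoinRoot P) := (AdjoinRoot.powerBasis hPm.ne_zero).finite
  haveI : Finite (AdjoinRoot P) := Module.finite_of_finite F
  haveI : Finite (AdjoinRoot P ≃ₗ[F] V) := Finite.of_injective _ DFunLike.coe_injective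
  have hA : finrank F (AdjoinRoot P) = finrank F V := by
    rw [(AdjoinRoot.powerBasis hPm.ne_zero).finrank, AdjoinRoot.powerBasis_dim, hPd]
  set S := ∑ φ ∈ Finset.univ.filter (fun φ : Module.End F V => φ.charpoly = P),
    Phi ((Nat.card F : ℂ) ^ f.natDegree) (kdim φ f / f.natDegree)
  have h1 : ∀ v : {v : V // v ≠ 0}, S = (Nat.card {e : AdjoinRoot P ≃ₗ[F] V // e 1 = v.1} : ℂ) :=
    fun v => by rw [← card_cyclic hPm hPd, hP]; exact sum_fibre_cyclic hf hfm hk v.2
  have hnz : ∀ e : AdjoinRoot P ≃ₗ[F] V, e 1 ≠ 0 := fun e => by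
    haveI : Nontrivial (AdjoinRoot P) := Module.nontrivial_of_finrank_pos (R := F)
      (by rw [hA, hdim]; exact Nat.mul_pos hf.natDegree_pos hk)
    rw [ne_eq, LinearEquiv.map_eq_zero_iff]
    exact one_ne_zero
  have h2 : (∑ v : {v : V // v ≠ 0}, S) = (Nat.card (V ≃ₗ[F] V) : ℂ) := by
    rw [Finset.sum_congr rfl fun v _ => h1 v, ← Nat.cast_sum, ← Nat.card_sigma]
    congr 1
    have e0 : AdjoinRoot P ≃ₗ[F] V := LinearEquiv.ofFinrankEq _ _ hA
    refine (Nat.card_congr
      { toFun := fun z => z.2.1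
        invFun := fun e => ⟨⟨e 1, hnz e⟩, e, rfl⟩
        left_inv := fun z => Sigma.subtype_ext (Subtype.ext z.2.2) rfl
        right_inv := fun e => rfl }).trans ?_
    exact Nat.card_congr
      { toFun := fun e => e0.symm.trans e
        invFun := fun e => e0.trans e
        left_inv := fun e => LinearEquiv.ext fun x => by simp
        right_inv := fun e => LinearEquiv.ext fun x => by simp }
  rw [Finset.sum_const, Finset.card_univ, nsmul_eq_mul, Fintype.card_subtype_compl,
    Fintype.card_subtype_eq, Fintype.card_eq_nat_card, Module.natCard_eq_pow_finrank (K := F)] at h2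
  rw [← h2, Nat.cast_sub (Nat.one_le_pow _ _ Nat.card_pos), Nat.cast_one, Nat.cast_pow]

end Cfsg.Agent.Lib.Cusp48
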