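import Cfsg.Agent.Lib.Cusp48.Torus
import Cfsg.Agent.Lib.BC78.PowChar
import Cfsg.Agent.Lib.Blocks.LocalRing

/-!
# Counting the cuspidal characters of the general linear group
-/

set_option autoImplicit false
set_option linter.unusedSectionVars false
set_option linter.style.haveILetI false
set_option synthInstance.maxHeartbeats 100000

namespace Cfsg.Agent.Lib.Cusp48

open Module Polynomial Cfsg.Agent.Lib.BrauerChar
open scoped MatrixGroups ComplexConjugate Classical

attribute [local instance] Ideal.Quotient.field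

variable {F : Type*} [Field F] [Fintype F] [DecidableEq F] {n : ℕ}

theorem mem_uni_iff {m : ℕ} (g : GL (Fin n) F) :
    (∀ i j : Fin n, ¬ (i.val < m ∧ m ≤ j.val) →
      (g : Matrix (Fin n) (Fin n) F) i j = (1 : Matrix (Fin n) (Fin n) F) i j) ↔
      ∃ X, uni (Wr (F := F) (n := n) m) X = g := by
  set W := Wr (F := F) (n := n) m
  constructor
  · intro h
    set A : Module.End F (Fin n → F) := toE g - 1
    have hA : ∀ v i, A v i = ∑ k, ((g : Matrix (Fin n) (Fin n) F) i k -
        (1 : Matrix (Fin n) (Fin n) F) i k) * v k := by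
      intro v i
      show Matrix.mulVec (g : Matrix (Fin n) (Fin n) F) v i - v i = _
      simp only [sub_mul, Finset.sum_sub_distrib]
      congr 1
      exact ((congrFun (Matrix.one_mulVec v) i).symm)
    have hmem : ∀ v, A v ∈ W := fun v i hi => by
      rw [hA]
      exact Finset.sum_eq_zero fun k _ => by rw [h i k (by omega), sub_self, zero_mul]
    have hker : W ≤ LinearMap.ker (A.codRestrict W hmem) := fun v hv => by
      refine LinearMap.mem_ker.2 (Subtype.ext (funext fun i => ?_))
      show A v i = 0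
      rw [hA]
      refine Finset.sum_eq_zero fun k _ => ?_
      rcases lt_or_ge k.val m with hk | hk
      · rw [h i k (by omega), sub_self, zero_mul]
      · rw [hv k hk, mul_zero]
    refine ⟨W.liftQ _ hker, toE_injective ?_⟩
    rw [toE_uni]
    refine LinearMap.ext fun v => ?_
    show v + A v = toE g v
    exact add_sub_cancel v (toE g v)
  · rintro ⟨X, rfl⟩ i j hij
    have h1 : (uni W X : Matrix (Fin n) (Fin n) F) i j = pert 1 X (Pi.single j 1) i :=
      LinearMap.toMatrix'_apply _ i j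
    rw [h1]
    show ((Pi.single j 1 : Fin n → F) i) + (X (W.mkQ (Pi.single j 1)) : Fin n → F) i = _
    have h2 : (X (W.mkQ (Pi.single j 1)) : Fin n → F) i = 0 := by
      rcases lt_or_ge i.val m with hi | hi
      · have hj : (Pi.single j 1 : Fin n → F) ∈ W := fun k hk => by
          rw [Pi.single_apply, if_neg]
          intro h
          subst h
          omega
        rw [Submodule.mkQ_apply, (Submodule.Quotient.mk_eq_zero W).2 hj, map_zero]
        rfl
      · exact (X _).2 i hi
    rw [h2, add_zero, Pi.single_apply, Matrix.one_apply]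

variable {M : Ideal Cfsg.AlgInt} [M.IsMaximal] {p : ℕ} [Fact p.Prime] [CharP F p]

/-- The sum of a power conjugate over the unipotent radical vanishes. -/
theorem sum_radical (ι : F →+* Rk M) {m : ℕ} (h0 : 0 < m) (hm : m < n) {e : ℕ} (he : ¬ p ∣ e) :
    (∑ g : GL (Fin n) F,
      if (∀ i j : Fin n, ¬ (i.val < m ∧ m ≤ j.val) →
          (g : Matrix (Fin n) (Fin n) F) i j = (1 : Matrix (Fin n) (Fin n) F) i j)
      then psi (p := p) ι n (g ^ e) else 0) = 0 := by
  set W := Wr (F := F) (n := n) m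
  haveI : Finite (((Fin n → F) ⧸ W) →ₗ[F] W) :=
    Finite.of_injective _ (DFunLike.coe_injective (F := ((Fin n → F) ⧸ W) →ₗ[F] W))
  letI : Fintype (((Fin n → F) ⧸ W) →ₗ[F] W) := Fintype.ofFinite _
  have he' : (e : F) ≠ 0 := fun h => he ((CharP.cast_eq_zero_iff F p e).1 h)
  have h1 : (∑ g : GL (Fin n) F,
      if (∀ i j : Fin n, ¬ (i.val < m ∧ m ≤ j.val) →
          (g : Matrix (Fin n) (Fin n) F) i j = (1 : Matrix (Fin n) (Fin n) F) i j)
      then psi (p := p) ι n (g ^ e) else 0) = ∑ X, psi (p := p) ι n (uni W X ^ e) := by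
    rw [← Finset.sum_filter]
    refine (Finset.sum_bij (fun X _ => uni W X) ?_ (fun X _ Y _ h => uni_injective W h) ?_
      fun X _ => rfl).symm
    · intro X _
      rw [Finset.mem_filter]
      exact ⟨Finset.mem_univ _, (mem_uni_iff _).2 ⟨X, rfl⟩⟩
    · intro g hg
      obtain ⟨X, hX⟩ := (mem_uni_iff g).1 (Finset.mem_filter.1 hg).2
      exact ⟨X, Finset.mem_univ _, hX⟩
  have hbij : Function.Bijective (fun X : ((Fin n → F) ⧸ W) →ₗ[F] W => e • X) :=
    Finite.injective_iff_bijective.1 fun X Y h => by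
      simp only [← Nat.cast_smul_eq_nsmul F] at h
      exact smul_right_injective _ he' h
  rw [h1, Finset.sum_congr rfl fun X _ => by rw [← uni_nsmul],
    hbij.sum_comp (fun X => psi (p := p) ι n (uni W X))]
  simp only [psi, ← Finset.mul_sum]
  refine mul_eq_zero_of_right _ ?_
  rw [Finset.sum_congr rfl fun X _ => show chi ι (tau M p) n (uni W X) =
    val ι (tau M p) (pert 1 X) by rw [chi, toE_uni]]
  exact sum_pert_val ι (tau M p) (fun _ hx => hx) (Wr_ne h0 hm).1 (Wr_ne h0 hm).2

/-- The count. -/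
theorem count_cuspidal (hM : Cfsg.IsPModular p M) (hn : 0 < n) :
    Nat.totient (Fintype.card F ^ n - 1) / n ≤
      Nat.card {χ : Cfsg.IrrCharacter (GL (Fin n) F) //
        (χ : GL (Fin n) F → ℂ) 1 = ∏ i ∈ Finset.Ico 1 n, ((Fintype.card F : ℂ) ^ i - 1) ∧
        ∀ m : ℕ, 0 < m → m < n →
          (∑ g : GL (Fin n) F,
            if (∀ i j : Fin n, ¬ (i.val < m ∧ m ≤ j.val) →
              (g : Matrix (Fin n) (Fin n) F) i j = (1 : Matrix (Fin n) (Fin n) F) i j)
            then (χ : GL (Fin n) F → ℂ) g else 0) = 0} := by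
  haveI : NeZero n := ⟨hn.ne'⟩
  let E := FiniteField.Extension F p n
  haveI : Finite E := Module.finite_of_finite F
  letI : Fintype E := Fintype.ofFinite E
  have hE : finrank F E = n := FiniteField.finrank_extension F p n
  haveI : CharP E p := charP_of_injective_algebraMap (algebraMap F E).injective p
  obtain ⟨j⟩ := exists_embedding hM E
  set ι := j.comp (algebraMap F E)
  set N := Fintype.card Eˣ with hN
  have hNq : Fintype.card F ^ n - 1 = N := by
    rw [hN, Fintype.card_units, Module.card_eq_pow_finrank (K := F) (V := E), hE]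
  rw [hNq]
  set L := N * (Nat.card (GL (Fin n) F) * p)
  haveI : NeZero L := ⟨Nat.mul_ne_zero Fintype.card_ne_zero
    (Nat.mul_ne_zero Nat.card_pos.ne' (Fact.out : p.Prime).ne_zero)⟩
  haveI : NeZero N := ⟨Fintype.card_ne_zero⟩
  choose lift hlift using ZMod.unitsMap_surjective (m := L) (dvd_mul_right N _)
  set e : (ZMod N)ˣ → ℕ := fun u => (lift u : ZMod L).val with he
  have hcop : ∀ u, (e u).Coprime L := fun u => ZMod.val_coe_unit_coprime (lift u)
  have hcast : ∀ u, ((e u : ℕ) : ZMod N) = (u : ZMod N) := fun u => by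
    rw [he, ← congrArg Units.val (hlift u), ZMod.unitsMap_val, ← ZMod.cast_eq_val]
  have heN : ∀ u, (e u).Coprime N := fun u =>
    Nat.Coprime.coprime_dvd_right (dvd_mul_right N _) (hcop u)
  have heG : ∀ u, (e u).Coprime (Nat.card (GL (Fin n) F)) := fun u =>
    Nat.Coprime.coprime_dvd_right ((dvd_mul_right _ p).trans (dvd_mul_left _ N)) (hcop u)
  have hep : ∀ u, ¬ p ∣ e u := fun u h =>
    Nat.Prime.not_dvd_one (Fact.out : p.Prime) ((Nat.dvd_gcd h
      ((dvd_mul_left p _).trans (dvd_mul_left _ N))).trans (hcop u).dvd)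
  set C := {χ : Cfsg.IrrCharacter (GL (Fin n) F) //
        (χ : GL (Fin n) F → ℂ) 1 = ∏ i ∈ Finset.Ico 1 n, ((Fintype.card F : ℂ) ^ i - 1) ∧
        ∀ m : ℕ, 0 < m → m < n →
          (∑ g : GL (Fin n) F,
            if (∀ i j : Fin n, ¬ (i.val < m ∧ m ≤ j.val) →
              (g : Matrix (Fin n) (Fin n) F) i j = (1 : Matrix (Fin n) (Fin n) F) i j)
            then (χ : GL (Fin n) F → ℂ) g else 0) = 0}
  have hirr := isIrr_psi (F := F) hM j hE
  let Ψ : (ZMod N)ˣ → C := fun u => ⟨⟨fun g => psi (p := p) ι n (g ^ e u),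
    BC78.PowChar.isIrrCharacter_pow hirr (heG u)⟩,
    by
      show psi (p := p) ι n (1 ^ e u) = _
      rw [one_pow]; exact psi_one hM ι hn,
    fun m h0 hm => sum_radical ι h0 hm (hep u)⟩
  letI : Fintype C := Fintype.ofFinite C
  have hgal : Fintype.card (E ≃ₐ[F] E) = n := by
    rw [Fintype.card_eq_nat_card, IsGalois.card_aut_eq_finrank, hE]
  let b : Basis (Fin n) F E := (Module.finBasisOfFinrankEq F E hE)
  obtain ⟨t₀, ht₀⟩ := IsCyclic.exists_ofOrder_eq_natCard (α := Eˣ)
  have hfib : ∀ χ : C, (Finset.univ.filter fun u => Ψ u = χ).card ≤ n := by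
    intro χ
    rcases (Finset.univ.filter fun u => Ψ u = χ).eq_empty_or_nonempty with h | ⟨u₀, hu₀⟩
    · rw [h, Finset.card_empty]; exact Nat.zero_le n
    have hσ : ∀ u ∈ Finset.univ.filter (fun u => Ψ u = χ), ∃ σ : E ≃ₐ[F] E, ∀ t : Eˣ,
        (Units.map σ.toAlgHom.toRingHom.toMonoidHom t) ^ e u₀ = t ^ e u := by
      intro u hu
      rw [Finset.mem_filter] at hu hu₀
      refine exists_galois b hM j (heN u₀) (heN u) fun t => ?_
      have h := congrArg (fun c : C => (c.1 : GL (Fin n) F → ℂ) (gT b t)) (hu₀.2.trans hu.2.symm)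
      simp only [Ψ, psi, ← map_pow] at h
      exact mul_left_cancel₀ (pow_ne_zero _ (neg_ne_zero.2 one_ne_zero)) h
    choose σ hσ using hσ
    rw [← Fintype.card_coe]
    refine le_trans (Fintype.card_le_of_injective (fun u => σ u.1 u.2) fun u v h =>
      Subtype.ext (Units.ext ?_)) hgal.le
    simp only at h
    have h1 : t₀ ^ e u.1 = t₀ ^ e v.1 := by rw [← hσ u.1 u.2, ← hσ v.1 v.2, h]
    rw [pow_eq_pow_iff_modEq, ht₀, Nat.card_eq_fintype_card, ← hN] at h1
    rw [← hcast, ← hcast]
    exact (ZMod.natCast_eq_natCast_iff _ _ _).2 h1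
  refine Nat.div_le_of_le_mul ?_
  rw [← ZMod.card_units_eq_totient, Nat.card_eq_fintype_card, ← Finset.card_univ, ← Finset.card_univ]
  exact (Finset.card_le_mul_card_image Finset.univ n fun χ _ => hfib χ).trans
    (Nat.mul_le_mul_left n (Finset.card_le_univ _))

end Cfsg.Agent.Lib.Cusp48
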