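import Cfsg.Agent.Lib.Cusp48.Uni

/-!
# The norm of the class function
-/

set_option autoImplicit false
set_option linter.unusedSectionVars false
set_option linter.style.haveILetI false
set_option synthInstance.maxHeartbeats 100000

namespace Cfsg.Agent.Lib.Cusp48

open Module Polynomial Cfsg.Agent.Lib.BrauerChar
open scoped MatrixGroups ComplexConjugate Classical

attribute [local instance] Ideal.Quotient.field

variable {M : Ideal Cfsg.AlgInt} [M.IsMaximal] {p : ℕ} [Fact p.Prime]
  {F : Type*} [Field F] [Fintype F] [DecidableEq F]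

/-- The class function is a generalized character. -/
theorem isGen_chi [CharP F p] (hM : Cfsg.IsPModular p M) (ι : F →+* Rk M) (n : ℕ) :
    Cfsg.IsGeneralizedCharacter (GL (Fin n) F) (chi ι (tau M p) n) := by
  induction n using Nat.strong_induction_on with
  | _ n ih =>
  rcases Nat.eq_zero_or_pos n with rfl | hn
  · rw [show chi (F := F) ι (tau M p) 0 = 0 from funext fun g => chi_zero ι (tau M p) g]
    exact Induced.Generalized.isGen_zero
  have h : chi ι (tau M p) n = (fun g : GL (Fin n) F => lifted ι (tau M p) n g) -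
      ∑ r ∈ Finset.Ico 1 n, (fun g : GL (Fin n) F => if h : r ≤ n then
        Cfsg.indFun (Par r) (fun q => chi ι (tau M p) r (res h q)) g else 0) := by
    funext g
    rw [Pi.sub_apply, Finset.sum_apply, lifted_eq ι (tau M p) hn g, indPart, add_sub_cancel_right]
  rw [h]
  refine Induced.Generalized.isGen_sub (isGen_rsum hM ι n) (Induced.Generalized.isGen_sum _ fun r hr => ?_)
  obtain ⟨-, hrn⟩ := Finset.mem_Ico.1 hr
  simp only [dif_pos hrn.le]
  exact Induced.Character.isGeneralizedCharacter_indFun _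
    (Induced.Generalized.isGen_comp (res hrn.le) (ih r hrn))

theorem charpoly_ne_X {n : ℕ} (g : GL (Fin n) F) {f : F[X]} (hp : Prim (toE g) f) :
    f ≠ Polynomial.X := by
  rintro rfl
  obtain ⟨-, -, k, hk, hcp⟩ := hp
  rw [toE_charpoly] at hcp
  have h := (g : Matrix (Fin n) (Fin n) F).det_eq_sign_charpoly_coeff
  rw [hcp, coeff_X_pow, if_neg (by omega), mul_zero] at h
  exact ((Matrix.isUnit_iff_isUnit_det _).1 g.isUnit).ne_zero h

theorem exists_toE_of_charpoly {n : ℕ} {φ : Module.End F (Fin n → F)} {f : F[X]}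
    (hf : Irreducible f) (hfm : f.Monic) (hX : f ≠ Polynomial.X) {k : ℕ} (hcp : φ.charpoly = f ^ k) :
    ∃ g : GL (Fin n) F, toE g = φ := by
  have hinj : Function.Injective φ := by
    rw [← LinearMap.ker_eq_bot, LinearMap.ker_eq_bot']
    intro v hv
    by_contra hne
    have hev : φ.HasEigenvector 0 v := ⟨Module.End.mem_eigenspace_iff.2 (by rw [hv, zero_smul]), hne⟩
    have h0 := Module.End.aeval_apply_of_hasEigenvector (p := f ^ k) hev
    rw [← hcp, φ.aeval_self_charpoly, LinearMap.zero_apply, hcp, eval_pow, eq_comm, smul_eq_zero,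
      or_iff_left hne] at h0
    refine hX (eq_of_monic_of_associated monic_X hfm ?_).symm
    exact irreducible_X.associated_of_dvd hf
      (X_dvd_iff.2 (by rw [coeff_zero_eq_eval_zero]; exact eq_zero_of_pow_eq_zero h0))
  exact exists_toE (LinearEquiv.ofBijective φ ⟨hinj, LinearMap.injective_iff_surjective.1 hinj⟩)

variable {E : Type*} [Field E] [Fintype E] [Algebra F E] [FiniteDimensional F E] (j : E →+* Rk M)

/-- The sum of the class function against the lifted trace. -/
theorem sum_chi_lifted (hM : Cfsg.IsPModular p M) {n : ℕ} (hE : finrank F E = n) :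
    ∑ g : GL (Fin n) F, chi (j.comp (algebraMap F E)) (tau M p) n g *
        conj (lifted (j.comp (algebraMap F E)) (tau M p) n g) = (Nat.card (GL (Fin n) F) : ℂ) := by
  set ι := j.comp (algebraMap F E)
  set τ := tau M p
  have hn : 0 < n := hE ▸ Module.finrank_pos
  set T := Finset.image (fun t : Eˣ => minpoly F (t : E)) Finset.univ with hT
  have hTf : ∀ f ∈ T, Irreducible f ∧ f.Monic ∧ f ≠ Polynomial.X ∧ f.natDegree ∣ n := by
    intro f hf
    rw [hT, Finset.mem_image] at hf
    obtain ⟨t, -, rfl⟩ := hf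
    exact ⟨minpoly.irreducible (IsIntegral.of_finite F _), minpoly.monic (IsIntegral.of_finite F _),
      minpoly_ne_X t, hE ▸ minpoly.degree_dvd (IsIntegral.of_finite F _)⟩
  set a : GL (Fin n) F → ℂ := fun g => chi ι τ n g * conj (lifted ι τ n g)
  have hsplit : ∀ g : GL (Fin n) F,
      ∑ f ∈ T, (if (toE g).charpoly = f ^ (n / f.natDegree) then a g else 0) = a g := by
    intro g
    by_cases hp : ∃ f, Prim (toE g) f
    · obtain ⟨f, hf⟩ := hp
      obtain ⟨hfi, hfm, k, hk, hcp⟩ := id hf
      have hd : n = k * f.natDegree := by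
        have h := congrArg natDegree hcp
        rwa [LinearMap.charpoly_natDegree, Module.finrank_fin_fun, natDegree_pow] at h
      have hk' : n / f.natDegree = k := by rw [hd, Nat.mul_div_cancel _ hfi.natDegree_pos]
      have hfT : f ∈ T := by
        obtain ⟨t, ht⟩ := exists_unit_minpoly (E := E) hfi hfm (charpoly_ne_X g hf)
          (hE ▸ ⟨k, by rw [mul_comm]; exact hd⟩)
        exact Finset.mem_image.2 ⟨t, Finset.mem_univ _, ht⟩
      rw [Finset.sum_eq_single f (fun f' hf' hne => if_neg fun h => hne (Prim.unique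
          ⟨(hTf f' hf').1, (hTf f' hf').2.1, _, Nat.div_pos (Nat.le_of_dvd hn (hTf f' hf').2.2.2)
            (hTf f' hf').1.natDegree_pos, h⟩ hf)) fun h => absurd hfT h, if_pos (by rw [hk', hcp])]
    · have h0 : a g = 0 := by
        show val ι τ (toE g) * _ = 0
        rw [val_not ι τ hp, zero_mul]
      rw [h0]
      exact Finset.sum_eq_zero fun f _ => ite_self _
  rw [show (∑ g : GL (Fin n) F, chi ι τ n g * conj (lifted ι τ n g)) = ∑ g, a g from rfl,
    ← Finset.sum_congr rfl fun g _ => hsplit g, Finset.sum_comm]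
  haveI : Finite (Module.End F (Fin n → F)) := Finite.of_injective _ DFunLike.coe_injective
  letI : Fintype (Module.End F (Fin n → F)) := Fintype.ofFinite _
  set N : ℂ := (Nat.card F : ℂ) ^ n - 1 with hN
  have hunits : (Fintype.card Eˣ : ℂ) = N := by
    rw [Fintype.card_units, hN, Nat.cast_sub Fintype.card_pos, Fintype.card_eq_nat_card,
      Module.natCard_eq_pow_finrank (K := F) (V := E), hE, Nat.cast_pow, Nat.cast_one]
  have hN0 : N ≠ 0 := by rw [← hunits]; exact Nat.cast_ne_zero.2 Fintype.card_ne_zero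
  have hcard : Nat.card ((Fin n → F) ≃ₗ[F] (Fin n → F)) = Nat.card (GL (Fin n) F) := by
    refine Nat.card_eq_of_bijective (fun e => (exists_toE e).choose) ⟨fun e e' h => ?_, fun g => ?_⟩
    · have h' := (exists_toE e).choose_spec
      simp only at h
      rw [h, (exists_toE e').choose_spec] at h'
      exact LinearEquiv.toLinearMap_injective h'.symm
    · refine ⟨LinearEquiv.ofBijective (toE g) ⟨fun x y h => ?_, fun y => ⟨_, toE_apply_inv g y⟩⟩, ?_⟩
      · rw [← toE_inv_apply g x, h, toE_inv_apply]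
      · exact toE_injective ((exists_toE _).choose_spec.trans rfl)
  have hfib : ∀ f ∈ T, N * (∑ g : GL (Fin n) F,
        if (toE g).charpoly = f ^ (n / f.natDegree) then a g else 0) =
      (Nat.card (GL (Fin n) F) : ℂ) *
        ((n / f.natDegree : ℕ) * rsum ι τ f * conj (rsum ι τ f)) := by
    intro f hf
    obtain ⟨hfi, hfm, hfX, hfd⟩ := hTf f hf
    set k := n / f.natDegree with hk
    have hk0 : 0 < k := Nat.div_pos (Nat.le_of_dvd hn hfd) hfi.natDegree_pos
    have hnk : finrank F (Fin n → F) = f.natDegree * k := by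
      rw [Module.finrank_fin_fun, hk, Nat.mul_div_cancel' hfd]
    have h1 : (∑ g : GL (Fin n) F, if (toE g).charpoly = f ^ k then a g else 0) =
        ((k : ℂ) * rsum ι τ f * conj (rsum ι τ f)) *
          ∑ φ ∈ Finset.univ.filter (fun φ : Module.End F (Fin n → F) => φ.charpoly = f ^ k),
            Phi ((Nat.card F : ℂ) ^ f.natDegree) (kdim φ f / f.natDegree) := by
      rw [← Finset.sum_filter, Finset.mul_sum]
      refine Finset.sum_bij (fun g _ => toE g) ?_ (fun g _ g' _ h => toE_injective h) ?_ ?_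
      · intro g hg
        rw [Finset.mem_filter] at hg ⊢
        exact ⟨Finset.mem_univ _, hg.2⟩
      · intro φ hφ
        rw [Finset.mem_filter] at hφ
        obtain ⟨g, rfl⟩ := exists_toE_of_charpoly hfi hfm hfX hφ.2
        exact ⟨g, Finset.mem_filter.2 ⟨Finset.mem_univ _, hφ.2⟩, rfl⟩
      · intro g hg
        rw [Finset.mem_filter] at hg
        show val ι τ (toE g) * conj (lifted ι τ n g) = _
        rw [val_prim ι τ (f := f) ⟨hfi, hfm, k, hk0, hg.2⟩, lifted, ← toE_charpoly, hg.2,
          rsum_pow ι τ hfi.ne_zero, map_mul, map_natCast]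
        ring
    have h4 := sum_fibre hfi hfm hk0 hnk
    rw [Module.finrank_fin_fun, ← hN, hcard] at h4
    rw [h1, ← h4]
    ring_nf
  refine mul_left_cancel₀ hN0 ?_
  rw [Finset.mul_sum, Finset.sum_congr rfl hfib, ← Finset.mul_sum, mul_comm N]
  congr 1
  have h2 : ∀ f ∈ T, ((n / f.natDegree : ℕ) : ℂ) * rsum ι τ f * conj (rsum ι τ f) =
      ∑ t ∈ Finset.univ.filter (fun t : Eˣ => minpoly F (t : E) = f),
        orb (F := F) M p j (t : E) * conj (theta j hM t) := by
    intro f hf
    obtain ⟨t₀, -, rfl⟩ := Finset.mem_image.1 hf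
    rw [Finset.sum_congr rfl fun t ht => by
      rw [orb_eq, (Finset.mem_filter.1 ht).2, hE], ← Finset.mul_sum]
    congr 1
    convert (sum_roots_conj (F := F) j hM t₀).symm using 2
    ext t
    simp
  rw [Finset.sum_congr rfl h2, Finset.sum_fiberwise_of_maps_to
    fun t _ => Finset.mem_image_of_mem _ (Finset.mem_univ t)]
  simp only [orb, Finset.sum_mul]
  rw [Finset.sum_comm]
  have h3 : ∀ σ : E ≃ₐ[F] E, ∑ t : Eˣ, tau M p (j (σ (t : E))) * conj (theta j hM t) =
      if σ = AlgEquiv.refl then N else 0 := by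
    intro σ
    have h := sum_theta j hM 1 1 σ
    simp only [pow_one] at h
    rw [show (∑ t : Eˣ, tau M p (j (σ (t : E))) * conj (theta j hM t)) = _ from h, hunits]
    refine if_congr ⟨fun h' => AlgEquiv.ext fun x => ?_, fun h' t => by subst h'; rfl⟩ rfl rfl
    rcases eq_or_ne x 0 with rfl | hx
    · simp
    · exact congrArg Units.val (h' (Units.mk0 x hx))
  rw [Finset.sum_congr rfl fun σ _ => h3 σ, Finset.sum_ite_eq' Finset.univ (AlgEquiv.refl : E ≃ₐ[F] E),
    if_pos (Finset.mem_univ _)]

/-- The norm is one. -/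
theorem classInner_chi (hM : Cfsg.IsPModular p M) {n : ℕ} (hE : finrank F E = n) :
    Cfsg.classInner (chi (F := F) (j.comp (algebraMap F E)) (tau M p) n)
      (chi (j.comp (algebraMap F E)) (tau M p) n) = 1 := by
  set ι := j.comp (algebraMap F E)
  set τ := tau M p
  have hn : 0 < n := hE ▸ Module.finrank_pos
  have h : chi ι τ n = (fun g : GL (Fin n) F => lifted ι τ n g) -
      ∑ r ∈ Finset.Ico 1 n, (fun g : GL (Fin n) F => if h : r ≤ n then
        Cfsg.indFun (Par r) (fun q => chi ι τ r (res h q)) g else 0) := by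
    funext g
    rw [Pi.sub_apply, Finset.sum_apply, lifted_eq ι τ hn g, indPart, add_sub_cancel_right]
  conv_lhs => arg 2; rw [h]
  rw [Induced.Basic.classInner_sub_right, Characters.Basic.classInner_sum_right,
    Finset.sum_eq_zero (fun r hr => ?_), sub_zero, Cfsg.classInner, sum_chi_lifted j hM hE,
    inv_mul_cancel₀ (Nat.cast_ne_zero.2 Nat.card_pos.ne')]
  obtain ⟨hr1, hrn⟩ := Finset.mem_Ico.1 hr
  simp only [dif_pos hrn.le]
  exact classInner_indFun_eq_zero ι τ hr1 hrn

end Cfsg.Agent.Lib.Cusp48
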