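import Cfsg.Agent.Lib.Cusp48.Sum
import Cfsg.Agent.Lib.Cusp48.Fibre
import Cfsg.Agent.Lib.Cusp48.Lift
import Cfsg.Agent.Lib.Induced.Character

/-!
# The class function on the general linear group
-/

set_option autoImplicit false
set_option linter.unusedSectionVars false
set_option linter.style.haveILetI false
set_option synthInstance.maxHeartbeats 100000

namespace Cfsg.Agent.Lib.Cusp48

open Module Polynomial
open scoped MatrixGroups ComplexConjugate Classical

variable {F : Type*} [Field F] [Fintype F] [DecidableEq F] {Ω : Type*} [Field Ω] (ι : F →+* Ω)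
  (τ : Ω → ℂ)

section General

variable {V : Type*} [AddCommGroup V] [Module F V] [FiniteDimensional F V] {φ : Module.End F V}
  {W : Submodule F V}

/-- The sum of the values over the perturbations vanishes. -/
theorem sum_pert_val (hW : W ≤ W.comap φ) (hW0 : W ≠ ⊥) (hW1 : W ≠ ⊤)
    [Fintype ((V ⧸ W) →ₗ[F] W)] : ∑ X : (V ⧸ W) →ₗ[F] W, val ι τ (pert φ X) = 0 := by
  have hprim : ∀ (X : (V ⧸ W) →ₗ[F] W) g, Prim (pert φ X) g ↔ Prim φ g := fun X g => by
    unfold Prim; rw [pert_charpoly hW X]
  by_cases hp : ∃ f, Prim φ f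
  · obtain ⟨f, hf⟩ := hp
    rw [Finset.sum_congr rfl fun X _ => val_prim ι τ ((hprim X f).2 hf), ← Finset.sum_mul,
      sum_pert hW hW0 hW1 hf, zero_mul]
  · exact Finset.sum_eq_zero fun X _ =>
      val_not ι τ fun ⟨g, hg⟩ => hp ⟨g, (hprim X g).1 hg⟩

end General

variable {n : ℕ}

/-- A matrix as an endomorphism. -/
noncomputable def toE : GL (Fin n) F →* Module.End F (Fin n → F) where
  toFun g := Matrix.toLin' (g : Matrix (Fin n) (Fin n) F)
  map_one' := by rw [Units.val_one, Matrix.toLin'_one]; rfl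
  map_mul' g h := by rw [Units.val_mul, Matrix.toLin'_mul]; rfl

theorem toE_injective : Function.Injective (toE (F := F) (n := n)) :=
  fun _ _ h => Units.ext (Matrix.toLin'.injective h)

theorem toE_charpoly (g : GL (Fin n) F) :
    (toE g).charpoly = (g : Matrix (Fin n) (Fin n) F).charpoly := Matrix.charpoly_toLin' _

theorem exists_toE (e : (Fin n → F) ≃ₗ[F] (Fin n → F)) :
    ∃ g : GL (Fin n) F, toE g = (e : Module.End F (Fin n → F)) := by
  refine ⟨⟨LinearMap.toMatrix' (e : (Fin n → F) →ₗ[F] _), LinearMap.toMatrix' (e.symm : (Fin n → F) →ₗ[F] _),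
    ?_, ?_⟩, Matrix.toLin'_toMatrix' _⟩
  · rw [← LinearMap.toMatrix'_comp, LinearEquiv.comp_symm, LinearMap.toMatrix'_id]
  · rw [← LinearMap.toMatrix'_comp, LinearEquiv.symm_comp, LinearMap.toMatrix'_id]

theorem toE_inv_apply (g : GL (Fin n) F) (x : Fin n → F) : toE g⁻¹ (toE g x) = x := by
  rw [← Module.End.mul_apply, ← map_mul, inv_mul_cancel, map_one, Module.End.one_apply]

theorem toE_apply_inv (g : GL (Fin n) F) (x : Fin n → F) : toE g (toE g⁻¹ x) = x := by
  rw [← Module.End.mul_apply, ← map_mul, mul_inv_cancel, map_one, Module.End.one_apply]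

/-- The class function. -/
noncomputable def chi (n : ℕ) (g : GL (Fin n) F) : ℂ := val ι τ (toE g)

theorem isClassFunction_chi (n : ℕ) : Cfsg.IsClassFunction (GL (Fin n) F) (chi ι τ n) := by
  intro g h
  refine (val_congr ι τ (LinearEquiv.ofBijective (toE h) ⟨?_, ?_⟩) (mem_Equi.2 (LinearMap.ext fun x => ?_))).symm
  · exact fun a b hab => by rw [← toE_inv_apply h a, hab, toE_inv_apply]
  · exact fun b => ⟨toE h⁻¹ b, toE_apply_inv h b⟩
  · show toE h (toE g x) = toE (h * g * h⁻¹) (toE h x)
    rw [map_mul, map_mul, Module.End.mul_apply, Module.End.mul_apply, toE_inv_apply]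

/-- The first `r` coordinates. -/
def Wr (r : ℕ) : Submodule F (Fin n → F) where
  carrier := {v | ∀ i : Fin n, r ≤ i.val → v i = 0}
  add_mem' {a b} ha hb i hi := by rw [Pi.add_apply, ha i hi, hb i hi, add_zero]
  zero_mem' i _ := rfl
  smul_mem' c v hv i hi := by rw [Pi.smul_apply, hv i hi, smul_zero]

/-- The identification of the first `r` coordinates. -/
noncomputable def eW {r : ℕ} (hr : r ≤ n) : (Fin r → F) ≃ₗ[F] Wr (F := F) (n := n) r where
  toFun v := ⟨fun i => if h : i.val < r then v ⟨i, h⟩ else 0, fun i hi => dif_neg (by omega)⟩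
  map_add' a b := Subtype.ext <| funext fun i => by
    show (if h : i.val < r then (a + b) ⟨i, h⟩ else 0) =
      (if h : i.val < r then a ⟨i, h⟩ else 0) + (if h : i.val < r then b ⟨i, h⟩ else 0)
    split_ifs <;> simp
  map_smul' c a := Subtype.ext <| funext fun i => by
    show (if h : i.val < r then (c • a) ⟨i, h⟩ else 0) = c • (if h : i.val < r then a ⟨i, h⟩ else 0)
    split_ifs <;> simp
  invFun w := fun j => w.1 (Fin.castLE hr j)
  left_inv v := funext fun j => dif_pos j.isLt
  right_inv w := Subtype.ext <| funext fun i => by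
    show (if h : i.val < r then w.1 (Fin.castLE hr ⟨i, h⟩) else 0) = w.1 i
    split_ifs with h
    · rfl
    · exact (w.2 i (by omega)).symm

theorem finrank_Wr {r : ℕ} (hr : r ≤ n) : finrank F (Wr (F := F) (n := n) r) = r := by
  rw [← (eW hr).finrank_eq, Module.finrank_fin_fun]

theorem Wr_ne {r : ℕ} (h0 : 0 < r) (hr : r < n) :
    Wr (F := F) (n := n) r ≠ ⊥ ∧ Wr (F := F) (n := n) r ≠ ⊤ := by
  constructor <;> intro h <;> have h1 := finrank_Wr (F := F) hr.le
  · rw [h, finrank_bot] at h1; omega
  · rw [h, finrank_top, Module.finrank_fin_fun] at h1; omega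

/-- The stabiliser of the first `r` coordinates. -/
noncomputable def Par (r : ℕ) : Subgroup (GL (Fin n) F) where
  carrier := {g | (Wr r).map (toE g) = Wr r}
  one_mem' := by
    show (Wr r).map (toE 1) = Wr r
    rw [map_one]; exact Submodule.map_id _
  mul_mem' {a b} ha hb := by
    show (Wr r).map (toE (a * b)) = Wr r
    rw [map_mul, Module.End.mul_eq_comp, Submodule.map_comp, hb, ha]
  inv_mem' {a} ha := by
    show (Wr r).map (toE a⁻¹) = Wr r
    conv_lhs => rw [← ha]
    rw [← Submodule.map_comp, ← Module.End.mul_eq_comp, ← map_mul, inv_mul_cancel, map_one]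
    exact Submodule.map_id _

theorem mem_Par {r : ℕ} {g : GL (Fin n) F} :
    g ∈ Par r ↔ Wr r ≤ (Wr r).comap (toE g) := by
  constructor
  · intro h x hx
    rw [Submodule.mem_comap]
    exact (SetLike.ext_iff.1 h _).1 (Submodule.mem_map_of_mem hx)
  · intro h
    refine Submodule.eq_of_le_of_finrank_eq (Submodule.map_le_iff_le_comap.2 h) ?_
    exact ((Wr r).equivMapOfInjective _ fun a b hab => by
      rw [← toE_inv_apply g a, hab, toE_inv_apply]).finrank_eq.symm

/-- The Levi projection. -/
noncomputable def res {r : ℕ} (hr : r ≤ n) : Par (F := F) (n := n) r →* GL (Fin r) F :=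
  MonoidHom.toHomUnits
    { toFun := fun p => LinearMap.toMatrix'
        ((eW hr).symm.conj ((toE (p : GL (Fin n) F)).restrict (mem_Par.1 p.2)))
      map_one' := by
        have h : (toE ((1 : Par (F := F) (n := n) r) : GL (Fin n) F)).restrict
            (mem_Par.1 (1 : Par (F := F) (n := n) r).2) = LinearMap.id :=
          LinearMap.ext fun x => Subtype.ext (by
            rw [LinearMap.coe_restrict_apply, OneMemClass.coe_one, map_one]; rfl)
        rw [h, LinearEquiv.conj_id, LinearMap.toMatrix'_id]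
      map_mul' := fun p q => by
        rw [← LinearMap.toMatrix'_mul]
        congr 1
        refine LinearMap.ext fun x => ?_
        rw [Module.End.mul_apply, LinearEquiv.conj_apply_apply, LinearEquiv.conj_apply_apply,
          LinearEquiv.conj_apply_apply]
        simp only [LinearEquiv.symm_symm, LinearEquiv.apply_symm_apply]
        congr 1
        refine Subtype.ext ?_
        show toE ((p * q : Par (F := F) (n := n) r) : GL (Fin n) F) _ = _
        rw [Subgroup.coe_mul, map_mul]
        rfl }

theorem chi_res {r : ℕ} (hr : r ≤ n) (p : Par (F := F) (n := n) r) :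
    chi ι τ r (res hr p) = val ι τ ((toE (p : GL (Fin n) F)).restrict (mem_Par.1 p.2)) := by
  refine val_congr ι τ (eW hr) (mem_Equi.2 (LinearMap.ext fun x => ?_))
  show eW hr (Matrix.toLin' (LinearMap.toMatrix' _) x) = _
  rw [Matrix.toLin'_toMatrix', LinearEquiv.conj_apply_apply, LinearEquiv.symm_symm,
    LinearEquiv.apply_symm_apply]
  rfl

theorem exists_move {W W' : Submodule F (Fin n → F)} (h : finrank F W = finrank F W') :
    ∃ g : GL (Fin n) F, W.map (toE g) = W' := by
  obtain ⟨C, hC⟩ := Submodule.exists_isCompl W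
  obtain ⟨C', hC'⟩ := Submodule.exists_isCompl W'
  have hd : finrank F C = finrank F C' := by
    have h1 := Submodule.finrank_add_eq_of_isCompl hC
    have h2 := Submodule.finrank_add_eq_of_isCompl hC'
    omega
  let e := (Submodule.prodEquivOfIsCompl W C hC).symm.trans
    (((LinearEquiv.ofFinrankEq W W' h).prodCongr (LinearEquiv.ofFinrankEq C C' hd)).trans
      (Submodule.prodEquivOfIsCompl W' C' hC'))
  obtain ⟨g, hg⟩ := exists_toE e
  refine ⟨g, ?_⟩
  rw [hg]
  refine Submodule.eq_of_le_of_finrank_eq ?_ ?_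
  · rintro _ ⟨x, hx, rfl⟩
    show e x ∈ W'
    simp only [e, LinearEquiv.trans_apply]
    rw [show x = ((⟨x, hx⟩ : W) : Fin n → F) from rfl, Submodule.prodEquivOfIsCompl_symm_apply_left]
    simp
  · rw [← h]
    exact ((W.equivMapOfInjective _ e.injective).finrank_eq).symm

theorem indFun_res {r : ℕ} (hr : r ≤ n) (g : GL (Fin n) F)
    [Fintype (Submodule F (Fin n → F))] :
    Cfsg.indFun (Par r) (fun p => chi ι τ r (res hr p)) g =
      ∑ W ∈ Finset.univ.filter (fun W : Submodule F (Fin n → F) => finrank F W = r),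
        vW ι τ (toE g) W := by
  rw [Induced.Basic.indFun_apply]
  have hterm : ∀ x : GL (Fin n) F,
      (if hx : x⁻¹ * g * x ∈ Par r then chi ι τ r (res hr ⟨_, hx⟩) else 0) =
        vW ι τ (toE g) ((Wr r).map (toE x)) := by
    intro x
    have hiff : x⁻¹ * g * x ∈ Par r ↔
        (Wr r).map (toE x) ≤ ((Wr r).map (toE x)).comap (toE g) := by
      rw [mem_Par]
      constructor
      · rintro h _ ⟨w, hw, rfl⟩
        refine ⟨_, h hw, ?_⟩
        rw [map_mul, map_mul, Module.End.mul_apply, Module.End.mul_apply, toE_apply_inv]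
      · intro h w hw
        obtain ⟨w', hw', he⟩ := h (Submodule.mem_map_of_mem hw)
        rw [Submodule.mem_comap, map_mul, map_mul, Module.End.mul_apply, Module.End.mul_apply, ← he,
          toE_inv_apply]
        exact hw'
    by_cases hx : x⁻¹ * g * x ∈ Par r
    · rw [dif_pos hx, chi_res, vW_of ι τ (hiff.1 hx)]
      refine val_congr ι τ ((Wr r).equivMapOfInjective (toE x) fun a b hab => by
        rw [← toE_inv_apply x a, hab, toE_inv_apply]) (mem_Equi.2 (LinearMap.ext fun w => Subtype.ext ?_))
      show toE x (toE (x⁻¹ * g * x) (w : Fin n → F)) = toE g (toE x w)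
      rw [map_mul, map_mul, Module.End.mul_apply, Module.End.mul_apply, toE_apply_inv]
    · rw [dif_neg hx]
      unfold vW
      rw [dif_neg fun h => hx (hiff.2 h)]
  rw [Finset.sum_congr rfl fun x _ => hterm x,
    ← Finset.sum_fiberwise_of_maps_to (g := fun x : GL (Fin n) F => (Wr r).map (toE x))
      (t := Finset.univ.filter fun W : Submodule F (Fin n → F) => finrank F W = r) ?_,
    Finset.mul_sum]
  swap
  · intro x _
    rw [Finset.mem_filter]
    refine ⟨Finset.mem_univ _, ?_⟩
    rw [← ((Wr r).equivMapOfInjective (toE x) fun a b hab => by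
        rw [← toE_inv_apply x a, hab, toE_inv_apply]).finrank_eq, finrank_Wr hr]
  refine Finset.sum_congr rfl fun W hW => ?_
  rw [Finset.sum_congr rfl fun x hx => by rw [(Finset.mem_filter.1 hx).2], Finset.sum_const,
    nsmul_eq_mul]
  obtain ⟨x₀, hx₀⟩ := exists_move (n := n) (W := Wr r) (W' := W)
    (by rw [finrank_Wr hr, (Finset.mem_filter.1 hW).2])
  have hcard : (Finset.univ.filter fun x : GL (Fin n) F => (Wr r).map (toE x) = W).card =
      Nat.card (Par (F := F) (n := n) r) := by
    rw [← Fintype.card_subtype, ← Nat.card_eq_fintype_card]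
    refine Nat.card_congr
      { toFun := fun x => ⟨x₀⁻¹ * x.1, ?_⟩
        invFun := fun p => ⟨x₀ * p.1, ?_⟩
        left_inv := fun x => Subtype.ext (mul_inv_cancel_left _ _)
        right_inv := fun p => Subtype.ext (inv_mul_cancel_left _ _) }
    · show (Wr r).map (toE (x₀⁻¹ * x.1)) = Wr r
      rw [map_mul, Module.End.mul_eq_comp, Submodule.map_comp, x.2, ← hx₀, ← Submodule.map_comp,
        ← Module.End.mul_eq_comp, ← map_mul, inv_mul_cancel, map_one]
      exact Submodule.map_id _
    · rw [map_mul, Module.End.mul_eq_comp, Submodule.map_comp, p.2, hx₀]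
  rw [hcard, ← mul_assoc, inv_mul_cancel₀ (Induced.Basic.subgroup_card_ne_zero _), one_mul]

/-- The lifted trace. -/
noncomputable def lifted (n : ℕ) (g : GL (Fin n) F) : ℂ :=
  rsum ι τ ((g : Matrix (Fin n) (Fin n) F).charpoly)

/-- The induced part. -/
noncomputable def indPart (n : ℕ) (g : GL (Fin n) F) : ℂ :=
  ∑ r ∈ Finset.Ico 1 n, if h : r ≤ n then
    Cfsg.indFun (Par r) (fun p => chi ι τ r (res h p)) g else 0

theorem lifted_eq (hn : 0 < n) (g : GL (Fin n) F) :
    lifted ι τ n g = chi ι τ n g + indPart ι τ n g := by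
  haveI : Finite (Submodule F (Fin n → F)) := Finite.of_injective _ SetLike.coe_injective
  letI : Fintype (Submodule F (Fin n → F)) := Fintype.ofFinite _
  rw [lifted, ← toE_charpoly, rsum_charpoly_sum ι τ n (toE g) (Module.finrank_fin_fun F)]
  have htop : vW ι τ (toE g) ⊤ = chi ι τ n g := by
    rw [vW_of ι τ (le_top : (⊤ : Submodule F (Fin n → F)) ≤ _)]
    exact val_congr ι τ Submodule.topEquiv (mem_Equi.2 rfl)
  have htopmem : (⊤ : Submodule F (Fin n → F)) ∈
      Finset.univ.filter (fun W : Submodule F (Fin n → F) => W ≠ ⊥) := by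
    rw [Finset.mem_filter]
    refine ⟨Finset.mem_univ _, fun h => ?_⟩
    have h1 := congrArg (fun W : Submodule F (Fin n → F) => finrank F W) h
    simp only [finrank_top, finrank_bot, Module.finrank_fin_fun] at h1
    omega
  rw [← Finset.add_sum_erase _ _ htopmem, htop]
  congr 1
  set s := (Finset.univ.filter (fun W : Submodule F (Fin n → F) => W ≠ ⊥)).erase ⊤ with hs
  have hlt : ∀ W ∈ s, finrank F W < n := by
    intro W hW
    rw [hs, Finset.mem_erase] at hW
    simpa using Submodule.finrank_lt hW.1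
  rw [← Finset.sum_fiberwise_of_maps_to (g := fun W : Submodule F (Fin n → F) => finrank F W)
    (t := Finset.Ico 1 n) fun W hW => Finset.mem_Ico.2 ⟨?_, hlt W hW⟩]
  swap
  · rw [hs, Finset.mem_erase, Finset.mem_filter] at hW
    exact Nat.one_le_iff_ne_zero.2 fun h => hW.2.2 (Submodule.finrank_eq_zero.1 h)
  refine Finset.sum_congr rfl fun r hr => ?_
  rw [Finset.mem_Ico] at hr
  rw [dif_pos hr.2.le, indFun_res]
  refine Finset.sum_congr ?_ fun W _ => rfl
  ext W
  simp only [hs, Finset.mem_filter, Finset.mem_erase, Finset.mem_univ, true_and]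
  refine ⟨fun h => h.2, fun h => ⟨⟨?_, ?_⟩, h⟩⟩
  · rintro rfl
    rw [finrank_top, Module.finrank_fin_fun] at h
    omega
  · rintro rfl
    rw [finrank_bot] at h
    omega

end Cfsg.Agent.Lib.Cusp48
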