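import Cfsg.Agent.Lib.Cusp48.Basic

/-!
# An extension by a simple invariant subspace
-/

set_option autoImplicit false
set_option linter.unusedSectionVars false
set_option linter.style.haveILetI false

namespace Cfsg.Agent.Lib.Cusp48

open Module Polynomial

variable {F : Type*} [Field F] [Finite F] {Ω : Type*} [Field Ω] (ι : F →+* Ω) (τ : Ω → ℂ)
variable {V : Type*} [AddCommGroup V] [Module F V] [FiniteDimensional F V]
  {φ : Module.End F V} {S : Submodule F V}

/-- A minimal invariant subspace. -/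
def IsSimpleSub (φ : Module.End F V) (S : Submodule F V) : Prop :=
  S ≠ ⊥ ∧ ∀ U : Submodule F V, U ≤ S → U ≤ U.comap φ → U = ⊥ ∨ U = S

theorem IsSimpleSub.exists_charpoly (hs : IsSimpleSub φ S) (hS : S ≤ S.comap φ) :
    ∃ f : F[X], Irreducible f ∧ f.Monic ∧ finrank F S = f.natDegree ∧
      (φ.restrict hS).charpoly = f ∧ aeval (φ.restrict hS) f = 0 := by
  classical
  set g : Module.End F S := φ.restrict hS with hg
  haveI : Nontrivial S := Submodule.nontrivial_iff_ne_bot.2 hs.1
  have hint : IsIntegral F g := LinearMap.isIntegral g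
  have hm : minpoly F g ≠ 0 := minpoly.ne_zero hint
  have hnu : ¬ IsUnit (minpoly F g) := minpoly.not_isUnit F g
  obtain ⟨f, hfm, hfi, hfd⟩ := Polynomial.exists_monic_irreducible_factor (minpoly F g) hnu
  have hker : LinearMap.ker (aeval g f) ≠ ⊥ := by
    intro h0
    obtain ⟨R, hR⟩ := hfd
    have hR0 : R ≠ 0 := fun h => hm (by rw [hR, h, mul_zero])
    have h1 : aeval g f * aeval g R = 0 := by rw [← map_mul, ← hR, minpoly.aeval]
    have h2 : aeval g R = 0 := LinearMap.ext fun x =>
      LinearMap.ker_eq_bot.1 h0 (by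
        have := LinearMap.congr_fun h1 x
        simpa using this)
    have h3 := natDegree_le_of_dvd (minpoly.dvd F g h2) hR0
    rw [hR, natDegree_mul hfi.ne_zero hR0] at h3
    have := hfi.natDegree_pos
    omega
  have hsimple : ∀ U : Submodule F S, U ≤ U.comap g → U ≠ ⊥ → U = ⊤ := by
    intro U hU hU0
    have hU' : U.map S.subtype ≤ (U.map S.subtype).comap φ := by
      rintro _ ⟨x, hx, rfl⟩
      exact ⟨g x, hU hx, rfl⟩
    rcases hs.2 _ (Submodule.map_subtype_le S U) hU' with h | h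
    · exact absurd (Submodule.map_injective_of_injective S.subtype_injective
        (h.trans (Submodule.map_bot S.subtype).symm)) hU0
    · exact Submodule.map_injective_of_injective S.subtype_injective (by
        rw [h, Submodule.map_top, Submodule.range_subtype])
  have hf0 : aeval g f = 0 := LinearMap.ker_eq_top.1 (hsimple _ (ker_invariant f) hker)
  obtain ⟨v, hv⟩ := exists_ne (0 : S)
  haveI : Module.Finite F (AdjoinRoot f) := (AdjoinRoot.powerBasis hfi.ne_zero).finite
  let c : AdjoinRoot f →ₗ[F] S :=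
    (LinearMap.applyₗ v) ∘ₗ (act g hf0).toLinearMap
  have hc : LinearMap.range c = ⊤ := by
    refine hsimple _ ?_ ?_
    · rintro _ ⟨k, rfl⟩
      refine ⟨AdjoinRoot.mk f X * k, ?_⟩
      show act g hf0 (AdjoinRoot.mk f X * k) v = g (act g hf0 k v)
      rw [map_mul, act_mk, aeval_X, Module.End.mul_apply]
    · intro h0
      have : c 1 = 0 := by
        have h1 : c 1 ∈ LinearMap.range c := ⟨1, rfl⟩
        rw [h0] at h1
        exact (Submodule.mem_bot F).1 h1
      refine hv ?_
      rw [← this]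
      show v = act g hf0 1 v
      rw [map_one, Module.End.one_apply]
  have hle : finrank F S ≤ f.natDegree := by
    have h1 := LinearMap.finrank_range_le c
    rw [hc, finrank_top, (AdjoinRoot.powerBasis hfi.ne_zero).finrank, AdjoinRoot.powerBasis_dim] at h1
    exact h1
  have hge : f.natDegree ≤ finrank F S :=
    Nat.le_of_dvd Module.finrank_pos (natDegree_dvd_finrank hfi hf0)
  refine ⟨f, hfi, hfm, le_antisymm hle hge, ?_, hf0⟩
  have hdvd : f ∣ g.charpoly := hfd.trans (g.minpoly_dvd_charpoly)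
  have hdeg : g.charpoly.natDegree ≤ f.natDegree := by
    rw [LinearMap.charpoly_natDegree]; exact hle
  exact eq_of_monic_of_dvd_of_natDegree_le hfm g.charpoly_monic hdvd hdeg

/-- Composites of equivariant maps. -/
theorem comp_mem_Equi {A B C : Type*} [AddCommGroup A] [Module F A] [AddCommGroup B] [Module F B]
    [AddCommGroup C] [Module F C] {φA : Module.End F A} {φB : Module.End F B}
    {φC : Module.End F C} {δ : A →ₗ[F] B} {ε : B →ₗ[F] C} (h : δ ∈ Equi φA φB)
    (h' : ε ∈ Equi φB φC) : ε ∘ₗ δ ∈ Equi φA φC := by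
  refine mem_Equi.2 ?_
  rw [LinearMap.comp_assoc, mem_Equi.1 h, ← LinearMap.comp_assoc, mem_Equi.1 h',
    LinearMap.comp_assoc]

/-- The quotient by `S` is any invariant complement. -/
theorem quot_equiv_mem (hS : S ≤ S.comap φ) {C : Submodule F V} (hC : C ≤ C.comap φ)
    (h : IsCompl S C) :
    ((Submodule.quotientEquivOfIsCompl S C h : (V ⧸ S) ≃ₗ[F] C) : (V ⧸ S) →ₗ[F] C) ∈
      Equi (S.mapQ S φ hS) (φ.restrict hC) := by
  refine mem_Equi.2 (Submodule.linearMap_qext _ (LinearMap.ext fun x => ?_))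
  simp only [LinearMap.comp_apply, LinearEquiv.coe_coe, Submodule.mkQ_apply, Submodule.mapQ_apply]
  apply (Submodule.quotientEquivOfIsCompl S C h).symm.injective
  rw [LinearEquiv.symm_apply_apply, Submodule.quotientEquivOfIsCompl_symm_apply,
    LinearMap.coe_restrict_apply]
  have h1 : S.mkQ ((Submodule.quotientEquivOfIsCompl S C h (Submodule.Quotient.mk x) : C) : V) =
      S.mkQ x := by
    rw [Submodule.mkQ_apply, ← Submodule.quotientEquivOfIsCompl_symm_apply S C h,
      LinearEquiv.symm_apply_apply]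
    rfl
  have h2 := congrArg (S.mapQ S φ hS) h1
  simpa using h2.symm

/-- The invariant complements correspond to the equivariant maps from the quotient. -/
theorem card_compl (hS : S ≤ S.comap φ) {C₀ : Submodule F V} (hC₀ : C₀ ≤ C₀.comap φ)
    (h₀ : IsCompl S C₀) :
    Nat.card {C : Submodule F V // C ≤ C.comap φ ∧ IsCompl S C} =
      Nat.card (Equi (S.mapQ S φ hS) (φ.restrict hS)) := by
  classical
  set Q := S.mapQ S φ hS
  let sec : ∀ C : Submodule F V, IsCompl S C → (V ⧸ S) →ₗ[F] V := fun C h =>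
    C.subtype ∘ₗ ((Submodule.quotientEquivOfIsCompl S C h : (V ⧸ S) ≃ₗ[F] C) : (V ⧸ S) →ₗ[F] C)
  have hsecE : ∀ C, C ≤ C.comap φ → ∀ h : IsCompl S C, sec C h ∈ Equi Q φ := fun C hC h =>
    comp_mem_Equi (quot_equiv_mem hS hC h) (subtype_mem_Equi hC)
  have hsec : ∀ C (h : IsCompl S C) q, S.mkQ (sec C h q) = q := by
    intro C h q
    show S.mkQ ((Submodule.quotientEquivOfIsCompl S C h q : C) : V) = q
    rw [Submodule.mkQ_apply, ← Submodule.quotientEquivOfIsCompl_symm_apply S C h,
      LinearEquiv.symm_apply_apply]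
  let s : Equi Q (φ.restrict hS) → ((V ⧸ S) →ₗ[F] V) := fun δ =>
    sec C₀ h₀ + S.subtype ∘ₗ (δ : (V ⧸ S) →ₗ[F] S)
  have hs1 : ∀ δ q, S.mkQ (s δ q) = q := fun δ q => by
    show S.mkQ (sec C₀ h₀ q + (δ.1 q : V)) = q
    rw [map_add, hsec]
    exact add_eq_left.2 ((Submodule.Quotient.mk_eq_zero S).2 (δ.1 q).2)
  have hs2 : ∀ δ, s δ ∈ Equi Q φ := fun δ =>
    (Equi Q φ).add_mem (hsecE C₀ hC₀ h₀) (comp_mem_Equi δ.2 (subtype_mem_Equi hS))
  have hinv : ∀ δ, LinearMap.range (s δ) ≤ (LinearMap.range (s δ)).comap φ := by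
    rintro δ _ ⟨q, rfl⟩
    exact ⟨Q q, LinearMap.congr_fun (mem_Equi.1 (hs2 δ)) q⟩
  have hcompl : ∀ δ, IsCompl S (LinearMap.range (s δ)) := by
    intro δ
    refine ⟨?_, ?_⟩
    · rw [Submodule.disjoint_def]
      rintro _ hx ⟨q, rfl⟩
      have h := hs1 δ q
      rw [Submodule.mkQ_apply, (Submodule.Quotient.mk_eq_zero S).2 hx] at h
      rw [← h, map_zero]
    · rw [codisjoint_iff, eq_top_iff]
      intro x _
      have hx : x - s δ (S.mkQ x) ∈ S := by
        rw [← Submodule.Quotient.mk_eq_zero, ← Submodule.mkQ_apply, map_sub, hs1, sub_self]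
      rw [← sub_add_cancel x (s δ (S.mkQ x))]
      exact Submodule.add_mem_sup hx ⟨_, rfl⟩
  refine (Nat.card_congr (Equiv.ofBijective
    (fun δ => (⟨LinearMap.range (s δ), hinv δ, hcompl δ⟩ :
      {C : Submodule F V // C ≤ C.comap φ ∧ IsCompl S C})) ⟨?_, ?_⟩)).symm
  · intro δ δ' h
    have h' : LinearMap.range (s δ) = LinearMap.range (s δ') := congrArg Subtype.val h
    refine Subtype.ext (LinearMap.ext fun q => Subtype.ext ?_)
    obtain ⟨q', hq'⟩ : s δ q ∈ LinearMap.range (s δ') := h' ▸ ⟨q, rfl⟩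
    have h1 := congrArg S.mkQ hq'
    rw [hs1, hs1] at h1
    subst h1
    exact (add_left_cancel hq').symm
  · rintro ⟨C, hC, hSC⟩
    have hd : ∀ q, sec C hSC q - sec C₀ h₀ q ∈ S := fun q => by
      rw [← Submodule.Quotient.mk_eq_zero, ← Submodule.mkQ_apply, map_sub, hsec, hsec, sub_self]
    let δ : (V ⧸ S) →ₗ[F] S := (sec C hSC - sec C₀ h₀).codRestrict S hd
    have hδ : δ ∈ Equi Q (φ.restrict hS) := by
      refine mem_Equi.2 (LinearMap.ext fun q => Subtype.ext ?_)
      exact LinearMap.congr_fun (mem_Equi.1 ((Equi Q φ).sub_mem (hsecE C hC hSC) (hsecE C₀ hC₀ h₀))) q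
    refine ⟨⟨δ, hδ⟩, Subtype.ext ?_⟩
    have hseq : s ⟨δ, hδ⟩ = sec C hSC := LinearMap.ext fun q => by
      show sec C₀ h₀ q + (sec C hSC q - sec C₀ h₀ q) = sec C hSC q
      exact add_sub_cancel _ _
    show LinearMap.range (s ⟨δ, hδ⟩) = C
    rw [hseq]
    show LinearMap.range (C.subtype ∘ₗ _) = C
    rw [LinearMap.range_comp, LinearEquiv.range, Submodule.map_top, Submodule.range_subtype]

/-- The number of equivariant maps to a simple space. -/
theorem card_equi_simple {f : F[X]} (hf : Irreducible f) (hS : S ≤ S.comap φ)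
    (hdim : finrank F S = f.natDegree) (hf0 : aeval (φ.restrict hS) f = 0) :
    Nat.card (Equi (S.mapQ S φ hS) (φ.restrict hS)) =
      (Nat.card F ^ f.natDegree) ^ (kdim (S.mapQ S φ hS) f / f.natDegree) := by
  classical
  set Q := S.mapQ S φ hS
  set R := LinearMap.range (aeval Q f)
  set C := R.mapQ R Q (range_invariant f)
  haveI : Finite V := Module.finite_of_finite F
  haveI : Finite S := Module.finite_of_finite F
  haveI : Finite ((V ⧸ S) ⧸ R) := Module.finite_of_finite F
  haveI : Finite ((V ⧸ S) ⧸ R →ₗ[F] S) := Finite.of_injective _ DFunLike.coe_injective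
  haveI : Finite (Equi C (φ.restrict hS)) :=
    Finite.of_injective _ Subtype.val_injective
  letI : Fintype (Equi C (φ.restrict hS)) := Fintype.ofFinite _
  have hk : ∀ δ : Equi Q (φ.restrict hS), R ≤ LinearMap.ker (δ : (V ⧸ S) →ₗ[F] S) := by
    rintro δ _ ⟨x, rfl⟩
    rw [LinearMap.mem_ker, ← LinearMap.comp_apply, equi_aeval δ.2, hf0]
    rfl
  let e : Equi Q (φ.restrict hS) ≃ Equi C (φ.restrict hS) :=
    { toFun := fun δ => ⟨R.liftQ δ.1 (hk δ), by
        refine mem_Equi.2 (Submodule.linearMap_qext _ (LinearMap.ext fun x => ?_))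
        exact LinearMap.congr_fun (mem_Equi.1 δ.2) x⟩
      invFun := fun ε => ⟨ε.1 ∘ₗ R.mkQ, comp_mem_Equi (mkQ_mem_Equi (range_invariant f)) ε.2⟩
      left_inv := fun δ => Subtype.ext (LinearMap.ext fun x => rfl)
      right_inv := fun ε => Subtype.ext (Submodule.linearMap_qext _ (LinearMap.ext fun x => rfl)) }
  rw [Nat.card_congr e, (equi_count hf (aeval_coker f) hf0).1, hdim, ← kdim_eq_coker,
    Nat.div_self hf.natDegree_pos, mul_one]

/-- The values over a simple subspace, its invariant complements and the quotient. -/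
theorem val_simple (hS : S ≤ S.comap φ) (hs : IsSimpleSub φ S) (hS1 : S ≠ ⊤) :
    val ι τ φ + (Nat.card {C : Submodule F V // C ≤ C.comap φ ∧ IsCompl S C} : ℂ) *
      val ι τ (S.mapQ S φ hS) = val ι τ (S.mapQ S φ hS) := by
  classical
  obtain ⟨f, hfi, hfm, hdim, hcp, hf0⟩ := hs.exists_charpoly hS
  set Q := S.mapQ S φ hS
  have hsubP : Prim (φ.restrict hS) f := ⟨hfi, hfm, 1, one_pos, by rw [pow_one, hcp]⟩
  by_cases hQ : ∃ g, Prim Q g
  swap
  · have hφ : ¬ ∃ g, Prim φ g := fun ⟨g, hg⟩ => hQ ⟨g, hg.quot hS hS1⟩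
    rw [val_not ι τ hQ, val_not ι τ hφ, mul_zero, add_zero]
  obtain ⟨g, hg⟩ := hQ
  by_cases hfg : g = f
  swap
  · have hφ : ¬ ∃ g, Prim φ g := fun ⟨g', hg'⟩ => hfg <| by
      rw [← (hg'.quot hS hS1).unique hg, (hg'.sub hS hs.1).unique hsubP]
    obtain ⟨hgi, hgm, k, hk, hQk⟩ := hg
    set P := g ^ k with hP
    have hQ0 : aeval Q P = 0 := by rw [← hQk]; exact Q.aeval_self_charpoly
    have hcop : IsCoprime P f := by
      refine IsCoprime.pow_left ?_
      refine (hgi.coprime_iff_not_dvd).2 fun h => hfg ?_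
      exact eq_of_monic_of_associated hgm hfm (hgi.associated_of_dvd hfi h)
    have hinS : ∀ x ∈ S, aeval φ P x = 0 → x = 0 := by
      intro x hx h0
      obtain ⟨a, b, hab⟩ := hcop
      have h1 := LinearMap.congr_fun (congrArg (aeval φ) hab) x
      rw [map_add, map_mul, map_mul, map_one, LinearMap.add_apply, Module.End.mul_apply,
        Module.End.mul_apply, h0, map_zero, zero_add, Module.End.one_apply] at h1
      have h2 := LinearMap.congr_fun (equi_aeval (subtype_mem_Equi hS) f) ⟨x, hx⟩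
      simp only [LinearMap.comp_apply, Submodule.subtype_apply] at h2
      rw [← h2, hf0, LinearMap.zero_apply, ZeroMemClass.coe_zero, map_zero] at h1
      exact h1.symm
    have hdisj : Disjoint S (LinearMap.ker (aeval φ P)) := Submodule.disjoint_def.2 hinS
    have hrange : LinearMap.range (aeval φ P) ≤ S := by
      rintro _ ⟨x, rfl⟩
      rw [← Submodule.Quotient.mk_eq_zero, ← Submodule.mkQ_apply, ← LinearMap.comp_apply,
        equi_aeval (mkQ_mem_Equi hS), hQ0]
      rfl
    have hc : IsCompl S (LinearMap.ker (aeval φ P)) := by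
      refine ⟨hdisj, codisjoint_iff.2 (Submodule.eq_top_of_disjoint _ _ ?_ hdisj)⟩
      have h1 := LinearMap.finrank_range_add_finrank_ker (aeval φ P)
      have h2 := Submodule.finrank_mono hrange
      omega
    have huniq : ∀ C : Submodule F V, C ≤ C.comap φ → IsCompl S C →
        C = LinearMap.ker (aeval φ P) := by
      intro C hC hSC
      refine Submodule.eq_of_le_of_finrank_eq ?_ ?_
      · intro x hx
        rw [LinearMap.mem_ker]
        refine Submodule.disjoint_def.1 hSC.1 _ (hrange ⟨x, rfl⟩) (aeval_mem hC P hx)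
      · have h1 := Submodule.finrank_add_eq_of_isCompl hSC
        have h2 := Submodule.finrank_add_eq_of_isCompl hc
        omega
    have hcard : Nat.card {C : Submodule F V // C ≤ C.comap φ ∧ IsCompl S C} = 1 :=
      Nat.card_eq_one_iff_unique.2 ⟨⟨fun a b => Subtype.ext
        ((huniq a.1 a.2.1 a.2.2).trans (huniq b.1 b.2.1 b.2.2).symm)⟩,
        ⟨⟨_, ker_invariant P, hc⟩⟩⟩
    rw [hcard, val_not ι τ hφ, Nat.cast_one, one_mul, zero_add]
  subst hfg
  obtain ⟨hgi, hgm, k, hk, hQk⟩ := id hg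
  have hφP : Prim φ g := ⟨hgi, hgm, k + 1, by omega, by
    rw [charpoly_eq_mul hS, hcp, hQk, pow_succ, mul_comm]⟩
  have hd0 : 0 < g.natDegree := hgi.natDegree_pos
  set R := LinearMap.range (aeval φ g) with hR
  have hmap : R.map S.mkQ = LinearMap.range (aeval Q g) := by
    rw [hR, ← LinearMap.range_comp, equi_aeval (mkQ_mem_Equi hS), LinearMap.range_comp,
      Submodule.range_mkQ, Submodule.map_top]
  have hkey : finrank F R = finrank F (LinearMap.range (aeval Q g)) + finrank F ↥(R ⊓ S) := by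
    have h1 := LinearMap.finrank_range_add_finrank_ker (S.mkQ.domRestrict R)
    rw [LinearMap.range_domRestrict, hmap] at h1
    have h2 : finrank F (LinearMap.ker (S.mkQ.domRestrict R)) = finrank F ↥(R ⊓ S) := by
      rw [LinearMap.ker_domRestrict, Submodule.ker_mkQ]
      rw [← (Submodule.comapSubtypeEquivOfLe (inf_le_left : R ⊓ S ≤ R)).finrank_eq,
        Submodule.comap_inf, Submodule.comap_subtype_self, top_inf_eq]
    omega
  have hn1 := LinearMap.finrank_range_add_finrank_ker (aeval φ g)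
  have hn2 := LinearMap.finrank_range_add_finrank_ker (aeval Q g)
  have hn3 := Submodule.finrank_quotient_add_finrank S
  have hn1' : finrank F R + kdim φ g = finrank F V := hn1
  have hn2' : finrank F (LinearMap.range (aeval Q g)) + kdim Q g = finrank F (V ⧸ S) := hn2
  have hpos : 0 < kdim Q g := hg.kdim_pos
  have hdvd : g.natDegree ∣ kdim Q g := natDegree_dvd_kdim hgi
  have hinvR : R ⊓ S ≤ (R ⊓ S).comap φ := fun x hx => ⟨range_invariant g hx.1, hS hx.2⟩
  rcases hs.2 _ inf_le_right hinvR with hRS | hRS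
  · have hk1 : kdim φ g = g.natDegree + kdim Q g := by
      rw [hRS, finrank_bot] at hkey
      omega
    set φR := R.mapQ R φ (range_invariant g)
    have hSinv : S.map R.mkQ ≤ (S.map R.mkQ).comap φR := by
      rintro _ ⟨x, hx, rfl⟩
      exact ⟨φ x, hS hx, rfl⟩
    obtain ⟨C, hC, hSC⟩ := exists_invariant_compl hgi (aeval_coker g) (S.map R.mkQ) hSinv
    have hC₀ : C.comap R.mkQ ≤ (C.comap R.mkQ).comap φ := fun x hx => hC hx
    have h₀ : IsCompl S (C.comap R.mkQ) := by
      refine ⟨Submodule.disjoint_def.2 fun x hx hxC => ?_, codisjoint_iff.2 (eq_top_iff.2 fun x _ => ?_)⟩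
      · have h1 := Submodule.disjoint_def.1 hSC.1 _ (Submodule.mem_map_of_mem hx) hxC
        rw [Submodule.mkQ_apply, Submodule.Quotient.mk_eq_zero] at h1
        exact (Submodule.mem_bot F).1 (hRS ▸ Submodule.mem_inf.2 ⟨h1, hx⟩)
      · obtain ⟨a, ha, b, hb, hab⟩ := Submodule.mem_sup.1
          (show R.mkQ x ∈ S.map R.mkQ ⊔ C by rw [hSC.2.eq_top]; exact Submodule.mem_top)
        obtain ⟨a', ha', rfl⟩ := ha
        rw [← add_sub_cancel a' x]
        refine Submodule.add_mem_sup ha' ?_
        rw [Submodule.mem_comap, map_sub, ← hab, add_sub_cancel_left]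
        exact hb
    rw [card_compl hS hC₀ h₀, card_equi_simple hgi hS hdim hf0, val_prim ι τ hφP, val_prim ι τ hg,
      hk1, Nat.add_div_left _ hd0, Phi_succ _ (Nat.div_pos (Nat.le_of_dvd hpos hdvd) hd0)]
    push_cast
    ring
  · have hk1 : kdim φ g = kdim Q g := by
      rw [hRS, hdim] at hkey
      omega
    have hcard : Nat.card {C : Submodule F V // C ≤ C.comap φ ∧ IsCompl S C} = 0 := by
      rw [Nat.card_eq_zero]
      refine Or.inl ⟨fun ⟨C, hC, hSC⟩ => hs.1 ?_⟩
      refine (Submodule.eq_bot_iff _).2 fun x hx => ?_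
      refine Submodule.disjoint_def.1 hSC.1 x hx ?_
      obtain ⟨y, hy⟩ : x ∈ R := (hRS ▸ inf_le_left : S ≤ R) hx
      obtain ⟨a, ha, b, hb, rfl⟩ := Submodule.mem_sup.1
        (show y ∈ S ⊔ C by rw [hSC.2.eq_top]; exact Submodule.mem_top)
      have h2 := LinearMap.congr_fun (equi_aeval (subtype_mem_Equi hS) g) ⟨a, ha⟩
      simp only [LinearMap.comp_apply, Submodule.subtype_apply] at h2
      rw [map_add, ← h2, hf0, LinearMap.zero_apply, ZeroMemClass.coe_zero, zero_add] at hy
      rw [← hy]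
      exact aeval_mem hC g hb
    rw [hcard, val_prim ι τ hφP, val_prim ι τ hg, hk1, Nat.cast_zero, zero_mul, add_zero]

end Cfsg.Agent.Lib.Cusp48
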