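import Cfsg.Agent.Lib.Cusp48.Simple

/-!
# The lifted trace as a sum over the invariant subspaces
-/

set_option autoImplicit false
set_option linter.unusedSectionVars false
set_option linter.style.haveILetI false

namespace Cfsg.Agent.Lib.Cusp48

open Module Polynomial

universe u

variable {F : Type*} [Field F] [Finite F] {Ω : Type*} [Field Ω] (ι : F →+* Ω) (τ : Ω → ℂ)

open scoped Classical in
/-- The value at an invariant subspace. -/
noncomputable def vW {V : Type*} [AddCommGroup V] [Module F V] [FiniteDimensional F V]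
    (φ : Module.End F V) (W : Submodule F V) : ℂ :=
  if h : W ≤ W.comap φ then val ι τ (φ.restrict h) else 0

theorem vW_of {V : Type*} [AddCommGroup V] [Module F V] [FiniteDimensional F V]
    {φ : Module.End F V} {W : Submodule F V} (h : W ≤ W.comap φ) :
    vW ι τ φ W = val ι τ (φ.restrict h) := dif_pos h

theorem rsum_charpoly_sum (n : ℕ) : ∀ {V : Type u} [AddCommGroup V] [Module F V]
    [FiniteDimensional F V] [Fintype (Submodule F V)] [DecidableEq (Submodule F V)]
    (φ : Module.End F V), finrank F V = n →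
      rsum ι τ φ.charpoly = ∑ W ∈ Finset.univ.filter (· ≠ ⊥), vW ι τ φ W := by
  induction n using Nat.strong_induction_on with
  | _ n ih =>
  intro V _ _ _ _ _ φ hn
  classical
  by_cases hn0 : n = 0
  · haveI : Subsingleton V := Module.finrank_zero_iff.1 (hn.trans hn0)
    rw [φ.charpoly_monic.natDegree_eq_zero.1 (by rw [LinearMap.charpoly_natDegree, hn, hn0]), rsum_one,
      Finset.sum_eq_zero]
    intro W hW
    exact absurd (Subsingleton.elim W ⊥) (Finset.mem_filter.1 hW).2
  haveI : Nontrivial V := Module.nontrivial_of_finrank_pos (R := F) (by omega)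
  obtain ⟨S, hS', hmin⟩ := Finset.exists_min_image
    (Finset.univ.filter fun W : Submodule F V => W ≠ ⊥ ∧ W ≤ W.comap φ) (fun W => finrank F W)
    ⟨⊤, by simp⟩
  obtain ⟨-, hS0, hS⟩ := Finset.mem_filter.1 hS'
  have hs : IsSimpleSub φ S := by
    refine ⟨hS0, fun U hU hUi => or_iff_not_imp_left.2 fun hU0 => ?_⟩
    exact Submodule.eq_of_le_of_finrank_le hU (hmin U (Finset.mem_filter.2 ⟨Finset.mem_univ _, hU0, hUi⟩))
  obtain ⟨f, hfi, hfm, hdim, hcp, hf0⟩ := hs.exists_charpoly hS
  have hvS : vW ι τ φ S = rsum ι τ f := by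
    rw [vW_of ι τ hS, val_prim ι τ (f := f) ⟨hfi, hfm, 1, one_pos, by rw [pow_one, hcp]⟩]
    have : kdim (φ.restrict hS) f = f.natDegree := by
      unfold kdim
      rw [hf0, LinearMap.ker_zero, finrank_top, hdim]
    rw [this, Nat.div_self hfi.natDegree_pos, Phi_one, one_mul]
  set Q := S.mapQ S φ hS
  haveI : Finite V := Module.finite_of_finite F
  haveI : Finite (V ⧸ S) := Module.finite_of_finite F
  haveI : Finite (Submodule F (V ⧸ S)) := Finite.of_injective _ SetLike.coe_injective
  letI : Fintype (Submodule F (V ⧸ S)) := Fintype.ofFinite _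
  have hQn : finrank F (V ⧸ S) < n := by
    have h1 := Submodule.finrank_quotient_add_finrank S
    have := hfi.natDegree_pos
    omega
  have hIH := ih _ hQn (V := V ⧸ S) Q rfl
  rw [charpoly_eq_mul hS, hcp, rsum_mul ι τ hfi.ne_zero Q.charpoly_monic.ne_zero, hIH]
  symm
  rw [← Finset.sum_fiberwise (Finset.univ.filter (· ≠ ⊥)) (fun W : Submodule F V => W.map S.mkQ)]
  have hbot : ∀ W : Submodule F V, W ≠ ⊥ → W.map S.mkQ = ⊥ → W ≤ W.comap φ → W = S := by
    intro W hW0 hW hWi
    refine (hs.2 W ?_ hWi).resolve_left hW0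
    rwa [← LinearMap.le_ker_iff_map, Submodule.ker_mkQ] at hW
  have key : ∀ Y' : Submodule F (V ⧸ S),
      (∑ W ∈ (Finset.univ.filter (· ≠ ⊥)).filter (fun W => W.map S.mkQ = Y'), vW ι τ φ W) =
        if Y' = ⊥ then rsum ι τ f else vW ι τ Q Y' := by
    intro Y'
    by_cases hY0 : Y' = ⊥
    · rw [if_pos hY0, ← hvS, Finset.sum_eq_single S]
      · intro W hW hWS
        rw [Finset.mem_filter, Finset.mem_filter] at hW
        unfold vW
        rw [dif_neg fun h => hWS (hbot W hW.1.2 (hW.2.trans hY0) h)]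
      · intro h
        refine absurd ?_ h
        rw [Finset.mem_filter, Finset.mem_filter, hY0, ← LinearMap.le_ker_iff_map, Submodule.ker_mkQ]
        exact ⟨⟨Finset.mem_univ _, hS0⟩, le_rfl⟩
    rw [if_neg hY0]
    by_cases hY : Y' ≤ Y'.comap Q
    swap
    · have : vW ι τ Q Y' = 0 := dif_neg hY
      rw [this]
      refine Finset.sum_eq_zero fun W hW => dif_neg fun h => hY ?_
      rw [Finset.mem_filter] at hW
      rw [← hW.2]
      rintro _ ⟨x, hx, rfl⟩
      exact ⟨φ x, h hx, rfl⟩
    set Y := Y'.comap S.mkQ with hYdef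
    have hSY : S ≤ Y := fun x hx => by
      rw [hYdef, Submodule.mem_comap, Submodule.mkQ_apply, (Submodule.Quotient.mk_eq_zero S).2 hx]
      exact Y'.zero_mem
    have hYi : Y ≤ Y.comap φ := fun x hx => hY hx
    have hYmap : Y.map S.mkQ = Y' := Submodule.map_comap_eq_of_surjective S.mkQ_surjective Y'
    set S₁ := S.comap Y.subtype with hS₁def
    have hS₁ : S₁ ≤ S₁.comap (φ.restrict hYi) := fun x hx => hS hx
    have hmap₁ : S₁.map Y.subtype = S := by
      rw [hS₁def, Submodule.map_comap_subtype, inf_eq_right.2 hSY]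
    have hs₁ : IsSimpleSub (φ.restrict hYi) S₁ := by
      refine ⟨fun h => hS0 (by rw [← hmap₁, h, Submodule.map_bot]), fun U hU hUi => ?_⟩
      rcases hs.2 (U.map Y.subtype) ((Submodule.map_mono hU).trans hmap₁.le) (by
          rintro _ ⟨x, hx, rfl⟩
          exact ⟨φ.restrict hYi x, hUi hx, rfl⟩) with h | h
      · exact Or.inl (Submodule.map_injective_of_injective Y.subtype_injective
          (h.trans (Submodule.map_bot _).symm))
      · exact Or.inr (Submodule.map_injective_of_injective Y.subtype_injective (h.trans hmap₁.symm))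
    have hS₁top : S₁ ≠ ⊤ := by
      intro h
      apply hY0
      rw [← hYmap, ← LinearMap.le_ker_iff_map, Submodule.ker_mkQ]
      exact Submodule.comap_subtype_eq_top.1 h
    let gmap : Y →ₗ[F] Y' := (S.mkQ ∘ₗ Y.subtype).codRestrict Y' fun x => x.2
    have hgs : Function.Surjective gmap := fun y => by
      obtain ⟨x, hx⟩ := S.mkQ_surjective y
      exact ⟨⟨x, show S.mkQ x ∈ Y' by rw [hx]; exact y.2⟩, Subtype.ext hx⟩
    have hgk : S₁ = LinearMap.ker gmap := by
      ext x
      rw [LinearMap.mem_ker, Subtype.ext_iff]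
      exact (Submodule.Quotient.mk_eq_zero S).symm
    let eY := (Submodule.quotEquivOfEq _ _ hgk).trans (gmap.quotKerEquivOfSurjective hgs)
    have heY : (eY : (Y ⧸ S₁) →ₗ[F] Y') ∈ Equi (S₁.mapQ S₁ (φ.restrict hYi) hS₁) (Q.restrict hY) := by
      refine mem_Equi.2 (Submodule.linearMap_qext _ (LinearMap.ext fun x => Subtype.ext ?_))
      rfl
    have hvQ : val ι τ (S₁.mapQ S₁ (φ.restrict hYi) hS₁) = vW ι τ Q Y' := by
      rw [vW_of ι τ hY, val_congr ι τ eY heY]
    have hcore := val_simple ι τ hS₁ hs₁ hS₁top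
    rw [hvQ] at hcore
    set Cs := Finset.univ.filter fun W : Submodule F V =>
      W ≤ W.comap φ ∧ W.map S.mkQ = Y' ∧ W ⊓ S = ⊥ with hCs
    have hYCs : Y ∉ Cs := fun h => hS0 (by
      rw [← inf_eq_right.2 hSY]; exact (Finset.mem_filter.1 h).2.2.2)
    have hsub : insert Y Cs ⊆ (Finset.univ.filter (· ≠ ⊥)).filter (fun W => W.map S.mkQ = Y') := by
      intro W hW
      rw [Finset.mem_filter, Finset.mem_filter]
      have hmapW : W.map S.mkQ = Y' := by
        rcases Finset.mem_insert.1 hW with rfl | h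
        · exact hYmap
        · exact (Finset.mem_filter.1 h).2.2.1
      exact ⟨⟨Finset.mem_univ _, fun h => hY0 (by rw [← hmapW, h, Submodule.map_bot])⟩, hmapW⟩
    have hout : ∀ W ∈ (Finset.univ.filter (· ≠ ⊥)).filter (fun W => W.map S.mkQ = Y'),
        W ∉ insert Y Cs → vW ι τ φ W = 0 := by
      intro W hW hWn
      refine dif_neg fun hWi => ?_
      rw [Finset.mem_filter] at hW
      rw [Finset.mem_insert, Finset.mem_filter, not_or] at hWn
      rcases hs.2 (W ⊓ S) inf_le_right (fun x hx => ⟨hWi hx.1, hS hx.2⟩) with h | h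
      · exact hWn.2 ⟨Finset.mem_univ _, hWi, hW.2, h⟩
      · apply hWn.1
        rw [hYdef, ← hW.2, Submodule.comap_map_mkQ, sup_eq_right.2 (inf_eq_right.1 h)]
    rw [← Finset.sum_subset hsub hout, Finset.sum_insert hYCs]
    have hC : ∀ W ∈ Cs, vW ι τ φ W = vW ι τ Q Y' := by
      intro W hW
      obtain ⟨-, hWi, hWmap, hWS⟩ := Finset.mem_filter.1 hW
      let w : W →ₗ[F] Y' := (S.mkQ ∘ₗ W.subtype).codRestrict Y' fun x =>
        hWmap ▸ Submodule.mem_map_of_mem x.2
      have hw : Function.Bijective w := by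
        refine ⟨(injective_iff_map_eq_zero w).2 fun x hx => Subtype.ext ?_, fun y => ?_⟩
        · have h1 : (x : V) ∈ S := (Submodule.Quotient.mk_eq_zero S).1 (congrArg Subtype.val hx)
          exact (Submodule.mem_bot F).1 (hWS ▸ Submodule.mem_inf.2 ⟨x.2, h1⟩)
        · obtain ⟨x, hx, hxy⟩ : (y : V ⧸ S) ∈ W.map S.mkQ := hWmap.symm ▸ y.2
          exact ⟨⟨x, hx⟩, Subtype.ext hxy⟩
      rw [vW_of ι τ hWi, vW_of ι τ hY, val_congr ι τ (φ' := Q.restrict hY) (LinearEquiv.ofBijective w hw)
        (mem_Equi.2 (LinearMap.ext fun x => Subtype.ext rfl))]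
    rw [Finset.sum_congr rfl hC, Finset.sum_const, nsmul_eq_mul, vW_of ι τ hYi]
    have hcard : Nat.card {C : Submodule F Y // C ≤ C.comap (φ.restrict hYi) ∧ IsCompl S₁ C} =
        Cs.card := by
      rw [← Fintype.card_coe, ← Nat.card_eq_fintype_card]
      refine Nat.card_congr (Equiv.ofBijective (fun C => ⟨C.1.map Y.subtype, ?_⟩) ⟨?_, ?_⟩)
      · obtain ⟨C, hCi, hCc⟩ := C
        refine Finset.mem_filter.2 ⟨Finset.mem_univ _, ?_, ?_, ?_⟩
        · rintro _ ⟨x, hx, rfl⟩
          exact ⟨φ.restrict hYi x, hCi hx, rfl⟩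
        · have h1 := congrArg (Submodule.map Y.subtype) hCc.sup_eq_top
          rw [Submodule.map_sup, hmap₁, Submodule.map_top, Submodule.range_subtype] at h1
          have h2 := congrArg (Submodule.map S.mkQ) h1
          rw [Submodule.map_sup, hYmap, (LinearMap.le_ker_iff_map).1 (Submodule.ker_mkQ S).ge,
            bot_sup_eq] at h2
          exact h2
        · rw [← hmap₁, ← Submodule.map_inf _ Y.subtype_injective, inf_comm, hCc.inf_eq_bot,
            Submodule.map_bot]
      · intro a b h
        exact Subtype.ext (Submodule.map_injective_of_injective Y.subtype_injective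
          (congrArg Subtype.val h))
      · rintro ⟨W, hW⟩
        obtain ⟨-, hWi, hWmap, hWS⟩ := Finset.mem_filter.1 hW
        have hWY : W ≤ Y := fun x hx => by
          rw [hYdef, Submodule.mem_comap, ← hWmap]; exact Submodule.mem_map_of_mem hx
        have hmapback : (W.comap Y.subtype).map Y.subtype = W := by
          rw [Submodule.map_comap_subtype, inf_eq_right.2 hWY]
        refine ⟨⟨W.comap Y.subtype, fun x hx => hWi hx, ?_, ?_⟩, Subtype.ext hmapback⟩
        · rw [disjoint_iff, hS₁def, ← Submodule.comap_inf, inf_comm, hWS, Submodule.comap_bot,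
            Submodule.ker_subtype]
        · rw [codisjoint_iff]
          apply Submodule.map_injective_of_injective Y.subtype_injective
          rw [Submodule.map_sup, hmap₁, hmapback, Submodule.map_top, Submodule.range_subtype,
            ← Submodule.comap_map_mkQ, hWmap]
    rw [← hcard]
    exact hcore
  simp_rw [key]
  rw [Finset.sum_ite, Finset.filter_eq', if_pos (Finset.mem_univ _), Finset.sum_singleton]

end Cfsg.Agent.Lib.Cusp48
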