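import Cfsg.Agent.Lib.Cusp48.Norm

/-!
# The degree, the values on the torus, and the irreducible character
-/

set_option autoImplicit false
set_option linter.unusedSectionVars false
set_option linter.style.haveILetI false
set_option synthInstance.maxHeartbeats 100000

namespace Cfsg.Agent.Lib.Cusp48

open Module Polynomial Cfsg.Agent.Lib.BrauerChar
open scoped MatrixGroups ComplexConjugate Classical

attribute [local instance] Ideal.Quotient.field

variable {M : Ideal Cfsg.AlgInt} [M.IsMaximal] {p : ℕ} [Fact p.Prime]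
  {F : Type*} [Field F] [Fintype F] [DecidableEq F]

/-- The degree of the class function. -/
theorem chi_one (hM : Cfsg.IsPModular p M) (ι : F →+* Rk M) {n : ℕ} (hn : 0 < n) :
    chi ι (tau M p) n 1 = Phi (Fintype.card F : ℂ) n := by
  have hd : (X - C (1 : F)).natDegree = 1 := natDegree_X_sub_C 1
  have hp : Prim (toE (1 : GL (Fin n) F)) (X - C (1 : F)) :=
    ⟨irreducible_X_sub_C 1, monic_X_sub_C 1, n, hn, by
      rw [map_one, LinearMap.charpoly_one, Module.finrank_fin_fun, map_one]⟩
  show val ι (tau M p) (toE 1) = _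
  rw [val_prim ι (tau M p) hp, hd]
  have hk : kdim (toE (1 : GL (Fin n) F)) (X - C (1 : F)) = n := by
    unfold kdim
    rw [map_sub, aeval_X, aeval_C, map_one, map_one, sub_self, LinearMap.ker_zero, finrank_top,
      Module.finrank_fin_fun]
  have hr : rsum ι (tau M p) (X - C (1 : F)) = 1 := by
    rw [rsum, Polynomial.map_sub, map_X, map_C, roots_X_sub_C, Multiset.map_singleton,
      Multiset.sum_singleton, map_one, tau_one hM]
  rw [hk, hr, Nat.div_one, pow_one, mul_one, Nat.card_eq_fintype_card]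

variable {E : Type*} [Field E] [Fintype E] [Algebra F E] [FiniteDimensional F E]

/-- The irreducible character. -/
noncomputable def psi (ι : F →+* Rk M) (n : ℕ) (g : GL (Fin n) F) : ℂ :=
  (-1) ^ (n - 1) * chi ι (tau M p) n g

theorem psi_one (hM : Cfsg.IsPModular p M) (ι : F →+* Rk M) {n : ℕ} (hn : 0 < n) :
    psi (p := p) ι n 1 = ∏ i ∈ Finset.Ico 1 n, ((Fintype.card F : ℂ) ^ i - 1) := by
  rw [psi, chi_one hM ι hn, Phi, show n - 1 = (Finset.Ico 1 n).card by simp,
    ← Finset.prod_const, ← Finset.prod_mul_distrib]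
  exact Finset.prod_congr rfl fun i _ => by ring

theorem isIrr_psi (hM : Cfsg.IsPModular p M) (j : E →+* Rk M) [CharP F p] {n : ℕ}
    (hE : finrank F E = n) :
    Cfsg.IsIrrCharacter (GL (Fin n) F) (psi (p := p) (j.comp (algebraMap F E)) n) := by
  set ι := j.comp (algebraMap F E)
  have hn : 0 < n := hE ▸ Module.finrank_pos
  refine Induced.Generalized.isIrrCharacter_of_norm_one ?_ ?_ ?_
  · have h := Induced.Generalized.isGen_zsmul (isGen_chi (p := p) hM ι n) ((-1) ^ (n - 1))
    convert h using 1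
    funext g
    simp [psi, zsmul_eq_mul]
  · have h := classInner_chi (F := F) j hM hE
    unfold Cfsg.classInner at h ⊢
    rw [← h]
    congr 1
    refine Finset.sum_congr rfl fun g _ => ?_
    simp only [psi, map_mul, map_pow, map_neg, map_one, ι]
    rw [mul_mul_mul_comm, ← mul_pow, neg_mul_neg, one_mul, one_pow, one_mul]
  · rw [psi_one hM ι hn]
    have h : ∏ i ∈ Finset.Ico 1 n, ((Fintype.card F : ℂ) ^ i - 1) =
        ((∏ i ∈ Finset.Ico 1 n, ((Fintype.card F : ℝ) ^ i - 1) : ℝ) : ℂ) := by push_cast; rfl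
    rw [h, Complex.ofReal_re]
    refine Finset.prod_pos fun i hi => ?_
    rw [sub_pos]
    exact one_lt_pow₀ (by exact_mod_cast Fintype.one_lt_card) (by
      have := Finset.mem_Ico.1 hi; omega)

section Torus

variable {n : ℕ} (b : Basis (Fin n) F E)

/-- The torus. -/
noncomputable def gT : Eˣ →* GL (Fin n) F := Units.map (Algebra.leftMulMatrix b).toMonoidHom

theorem chi_gT (j : E →+* Rk M) (t : Eˣ) :
    chi (j.comp (algebraMap F E)) (tau M p) n (gT b t) =
      Phi ((Nat.card F : ℂ) ^ (minpoly F (t : E)).natDegree) (n / (minpoly F (t : E)).natDegree) *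
        rsum (j.comp (algebraMap F E)) (tau M p) (minpoly F (t : E)) := by
  have hn : finrank F E = n := by rw [Module.finrank_eq_card_basis b, Fintype.card_fin]
  have hi : IsIntegral F (t : E) := IsIntegral.of_finite F _
  obtain ⟨hcp, -⟩ := charpoly_mulT (F := F) (t : E)
  have hp : Prim (toE (gT b t)) (minpoly F (t : E)) := by
    refine ⟨minpoly.irreducible hi, minpoly.monic hi, n / (minpoly F (t : E)).natDegree,
      Nat.div_pos (Nat.le_of_dvd (hn ▸ Module.finrank_pos) (hn ▸ minpoly.degree_dvd hi))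
        (minpoly.irreducible hi).natDegree_pos, ?_⟩
    rw [toE_charpoly]
    show (Algebra.leftMulMatrix b (t : E)).charpoly = _
    rw [Algebra.leftMulMatrix_apply, LinearMap.charpoly_toMatrix, ← hn]
    exact hcp
  show val _ _ (toE (gT b t)) = _
  rw [val_prim _ _ hp]
  have hk : kdim (toE (gT b t)) (minpoly F (t : E)) = n := by
    unfold kdim
    have h0 : aeval (toE (gT b t)) (minpoly F (t : E)) = 0 := by
      show aeval ((Matrix.toLinAlgEquiv' (R := F)).toAlgHom.comp (Algebra.leftMulMatrix b) (t : E)) _ = 0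
      rw [aeval_algHom_apply, minpoly.aeval, map_zero]
    rw [h0, LinearMap.ker_zero, finrank_top, Module.finrank_fin_fun]
  rw [hk]

theorem natDegree_minpoly_pow (t : Eˣ) {a : ℕ} (ha : a.Coprime (Fintype.card Eˣ)) :
    (minpoly F ((t ^ a : Eˣ) : E)).natDegree = (minpoly F (t : E)).natDegree := by
  rw [← IntermediateField.adjoin.finrank (IsIntegral.of_finite F _),
    ← IntermediateField.adjoin.finrank (IsIntegral.of_finite F _)]
  suffices h : IntermediateField.adjoin F {((t ^ a : Eˣ) : E)} = IntermediateField.adjoin F {(t : E)} by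
    rw [h]
  refine le_antisymm (IntermediateField.adjoin_simple_le_iff.2 ?_)
    (IntermediateField.adjoin_simple_le_iff.2 ?_)
  · rw [Units.val_pow_eq_pow_val]
    exact pow_mem (IntermediateField.mem_adjoin_simple_self F _) a
  · obtain ⟨m, hm⟩ := exists_pow_eq_self_of_coprime (x := t)
      (Nat.Coprime.coprime_dvd_right orderOf_dvd_card ha)
    nth_rewrite 2 [← hm]
    rw [Units.val_pow_eq_pow_val]
    exact pow_mem (IntermediateField.mem_adjoin_simple_self F _) m

/-- Equal values on the torus give Galois conjugate exponents. -/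
theorem exists_galois (hM : Cfsg.IsPModular p M) (j : E →+* Rk M) {a c : ℕ}
    (ha : a.Coprime (Fintype.card Eˣ)) (hc : c.Coprime (Fintype.card Eˣ))
    (h : ∀ t : Eˣ, chi (j.comp (algebraMap F E)) (tau M p) n (gT b (t ^ a)) =
      chi (j.comp (algebraMap F E)) (tau M p) n (gT b (t ^ c))) :
    ∃ σ : E ≃ₐ[F] E, ∀ t : Eˣ,
      (Units.map σ.toAlgHom.toRingHom.toMonoidHom t) ^ a = t ^ c := by
  have hn : finrank F E = n := by rw [Module.finrank_eq_card_basis b, Fintype.card_fin]
  have horb : ∀ t : Eˣ, orb (F := F) M p j ((t ^ a : Eˣ) : E) = orb (F := F) M p j ((t ^ c : Eˣ) : E) := by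
    intro t
    have h1 := h t
    rw [chi_gT, chi_gT, natDegree_minpoly_pow t ha, natDegree_minpoly_pow t hc] at h1
    rw [orb_eq, orb_eq, natDegree_minpoly_pow t ha, natDegree_minpoly_pow t hc]
    congr 1
    refine mul_left_cancel₀ ?_ h1
    rw [← Nat.cast_pow]
    refine Phi_ne_zero ?_ _
    exact (Finite.one_lt_card : 1 < Nat.card F).trans_le
      (Nat.le_self_pow (minpoly.irreducible (IsIntegral.of_finite F _)).natDegree_pos.ne' _)
  have key : ∀ e : ℕ, ∑ t : Eˣ, orb (F := F) M p j ((t ^ e : Eˣ) : E) * conj (theta j hM t) ^ c =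
      ∑ σ : E ≃ₐ[F] E, if (∀ t : Eˣ, (Units.map σ.toAlgHom.toRingHom.toMonoidHom t) ^ e = t ^ c) then
        (Fintype.card Eˣ : ℂ) else 0 := by
    intro e
    simp only [orb, Finset.sum_mul]
    rw [Finset.sum_comm]
    refine Finset.sum_congr rfl fun σ _ => ?_
    rw [← sum_theta j hM e c σ]
    refine Finset.sum_congr rfl fun t _ => ?_
    rw [← map_pow (theta j hM), ← map_pow (Units.map σ.toAlgHom.toRingHom.toMonoidHom)]
    rfl
  by_contra hno
  push Not at hno
  have h1 : ∑ σ : E ≃ₐ[F] E, (if (∀ t : Eˣ, (Units.map σ.toAlgHom.toRingHom.toMonoidHom t) ^ c = t ^ c)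
      then (Fintype.card Eˣ : ℂ) else 0) = 0 := by
    rw [← key c, Finset.sum_congr rfl fun t _ => by rw [← horb t], key a]
    exact Finset.sum_eq_zero fun σ _ => if_neg fun h' => by obtain ⟨t, ht⟩ := hno σ; exact ht (h' t)
  rw [Finset.sum_ite, Finset.sum_const_zero, add_zero, Finset.sum_const, nsmul_eq_mul, mul_eq_zero,
    or_iff_left (Nat.cast_ne_zero.2 Fintype.card_ne_zero), Nat.cast_eq_zero, Finset.card_eq_zero,
    Finset.filter_eq_empty_iff] at h1
  exact h1 (Finset.mem_univ AlgEquiv.refl) fun t => rfl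

end Torus

end Cfsg.Agent.Lib.Cusp48
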