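import Cfsg.Agent.Lib.Cusp48.Rep
import Cfsg.Agent.Lib.Cusp48.Elliptic
import Cfsg.Agent.Lib.Induced.Generalized

/-!
# The unipotent radical and the orthogonality to the induced parts
-/

set_option autoImplicit false
set_option linter.unusedSectionVars false
set_option linter.style.haveILetI false
set_option synthInstance.maxHeartbeats 100000

namespace Cfsg.Agent.Lib.Cusp48

open Module Polynomial
open scoped MatrixGroups ComplexConjugate Classical

variable {F : Type*} [Field F] [Fintype F] [DecidableEq F] {n : ℕ}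

theorem pert_one_mul (W : Submodule F (Fin n → F)) (X Y : ((Fin n → F) ⧸ W) →ₗ[F] W) :
    pert 1 X * pert 1 Y = pert (1 : Module.End F (Fin n → F)) (X + Y) := by
  refine LinearMap.ext fun v => ?_
  simp only [pert, Module.End.mul_apply, LinearMap.add_apply, LinearMap.comp_apply,
    Submodule.subtype_apply, Module.End.one_apply, map_add, mkQ_subtype_zero, map_zero,
    ZeroMemClass.coe_zero, add_zero, Submodule.coe_add]
  abel

/-- The unipotent elements attached to a subspace. -/
noncomputable def uni (W : Submodule F (Fin n → F)) (X : ((Fin n → F) ⧸ W) →ₗ[F] W) :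
    GL (Fin n) F where
  val := LinearMap.toMatrix' (pert 1 X)
  inv := LinearMap.toMatrix' (pert 1 (-X))
  val_inv := by
    rw [← LinearMap.toMatrix'_mul, pert_one_mul, show X + -X = 0 from add_neg_cancel X, pert_zero, LinearMap.toMatrix'_one]
  inv_val := by
    rw [← LinearMap.toMatrix'_mul, pert_one_mul, show -X + X = 0 from neg_add_cancel X, pert_zero, LinearMap.toMatrix'_one]

theorem toE_uni (W : Submodule F (Fin n → F)) (X : ((Fin n → F) ⧸ W) →ₗ[F] W) :
    toE (uni W X) = pert 1 X := Matrix.toLin'_toMatrix' _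

theorem uni_zero (W : Submodule F (Fin n → F)) : uni W 0 = 1 :=
  toE_injective (by rw [toE_uni, pert_zero, map_one])

theorem uni_add (W : Submodule F (Fin n → F)) (X Y : ((Fin n → F) ⧸ W) →ₗ[F] W) :
    uni W (X + Y) = uni W X * uni W Y :=
  toE_injective (by rw [map_mul, toE_uni, toE_uni, toE_uni, pert_one_mul])

theorem uni_nsmul (W : Submodule F (Fin n → F)) (X : ((Fin n → F) ⧸ W) →ₗ[F] W) (e : ℕ) :
    uni W (e • X) = uni W X ^ e := by
  induction e with
  | zero => rw [zero_smul, uni_zero, pow_zero]
  | succ e ih => rw [succ_nsmul, uni_add, ih, pow_succ]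

theorem uni_injective (W : Submodule F (Fin n → F)) : Function.Injective (uni W) := fun X Y h => by
  have h1 := congrArg toE h
  rw [toE_uni, toE_uni] at h1
  refine Submodule.linearMap_qext _ (LinearMap.ext fun v => Subtype.ext ?_)
  have h2 := LinearMap.congr_fun h1 v
  simpa [pert] using h2

variable {Ω : Type*} [Field Ω] (ι : F →+* Ω) (τ : Ω → ℂ)

theorem chi_zero (g : GL (Fin 0) F) : chi ι τ 0 g = 0 := by
  refine val_not ι τ fun ⟨f, hf, _, k, hk, hcp⟩ => ?_
  have h := congrArg natDegree hcp
  rw [LinearMap.charpoly_natDegree, Module.finrank_fin_fun, natDegree_pow] at h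
  exact absurd h.symm (Nat.mul_pos hk hf.natDegree_pos).ne'

/-- The class function is orthogonal to what is induced from a parabolic subgroup. -/
theorem classInner_indFun_eq_zero {r : ℕ} (h0 : 0 < r) (hr : r < n) :
    Cfsg.classInner (chi ι τ n)
      (Cfsg.indFun (Par r) fun p => chi ι τ r (res (F := F) hr.le p)) = 0 := by
  rw [Induced.Basic.frobenius_reciprocity' _ _ (isClassFunction_chi ι τ n), Cfsg.classInner,
    mul_eq_zero]
  right
  set W := Wr (F := F) (n := n) r with hW
  haveI : Finite (((Fin n → F) ⧸ W) →ₗ[F] W) :=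
    Finite.of_injective _ (DFunLike.coe_injective (F := ((Fin n → F) ⧸ W) →ₗ[F] W))
  letI : Fintype (((Fin n → F) ⧸ W) →ₗ[F] W) := Fintype.ofFinite _
  have hmem : ∀ X, uni W X ∈ Par r := fun X => by
    rw [mem_Par, toE_uni]
    exact pert_invariant (φ := (1 : Module.End F (Fin n → F))) (fun _ hx => hx) X
  set a : Par (F := F) (n := n) r → ℂ := fun p => chi ι τ n (p : GL (Fin n) F)
  set b : Par (F := F) (n := n) r → ℂ := fun p => conj (chi ι τ r (res hr.le p))
  have hb : ∀ X (p : Par (F := F) (n := n) r), b (p * ⟨uni W X, hmem X⟩) = b p := by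
    intro X p
    show conj _ = conj _
    rw [chi_res, chi_res]
    congr 2
    refine LinearMap.ext fun x => Subtype.ext ?_
    show toE ((p : GL (Fin n) F) * uni W X) (x : Fin n → F) = toE (p : GL (Fin n) F) x
    rw [map_mul, Module.End.mul_apply, toE_uni]
    congr 1
    simp only [pert, LinearMap.add_apply, LinearMap.comp_apply, Submodule.subtype_apply,
      Module.End.one_apply, mkQ_subtype_zero, map_zero, ZeroMemClass.coe_zero, add_zero]
  have hz : ∀ p : Par (F := F) (n := n) r, ∑ X, a (p * ⟨uni W X, hmem X⟩) = 0 := by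
    intro p
    have hp := mem_Par.1 p.2
    set φW : Module.End F W := (toE (p : GL (Fin n) F)).restrict (p := W) (q := W) fun x hx => hp hx with hφW
    have hinj : Function.Injective φW := fun x y h => Subtype.ext (by
      have h1 := congrArg Subtype.val h
      rw [hφW, LinearMap.coe_restrict_apply, LinearMap.coe_restrict_apply] at h1
      rw [← toE_inv_apply (p : GL (Fin n) F) (x : Fin n → F), h1, toE_inv_apply])
    have hbij : Function.Bijective (fun X : ((Fin n → F) ⧸ W) →ₗ[F] W => φW ∘ₗ X) :=
      Finite.injective_iff_bijective.1 fun X Y h => LinearMap.ext fun v =>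
        hinj (LinearMap.congr_fun h v)
    have e : ∀ X, a (p * ⟨uni W X, hmem X⟩) =
        val ι τ (pert (toE (p : GL (Fin n) F)) (φW ∘ₗ X)) := by
      intro X
      show val ι τ (toE ((p : GL (Fin n) F) * uni W X)) = _
      congr 1
      rw [map_mul, toE_uni]
      refine LinearMap.ext fun v => ?_
      simp only [pert, Module.End.mul_apply, LinearMap.add_apply, LinearMap.comp_apply,
        Submodule.subtype_apply, Module.End.one_apply, map_add, hφW, LinearMap.coe_restrict_apply]
    rw [Finset.sum_congr rfl fun X _ => e X,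
      hbij.sum_comp (fun X => val ι τ (pert (toE (p : GL (Fin n) F)) X))]
    exact sum_pert_val ι τ hp (Wr_ne h0 hr).1 (Wr_ne h0 hr).2
  have hs : ∀ X, ∑ p, a p * b p = ∑ p, a (p * ⟨uni W X, hmem X⟩) * b p := fun X => by
    rw [← Equiv.sum_comp (Equiv.mulRight (⟨uni W X, hmem X⟩ : Par (F := F) (n := n) r))]
    exact Finset.sum_congr rfl fun p _ => by rw [Equiv.coe_mulRight, hb X p]
  show ∑ p, a p * b p = 0
  have h2 : ∑ _X : ((Fin n → F) ⧸ W) →ₗ[F] W, ∑ p, a p * b p = 0 := by
    rw [Finset.sum_congr rfl fun X _ => hs X, Finset.sum_comm]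
    exact Finset.sum_eq_zero fun p _ => by rw [← Finset.sum_mul, hz p, zero_mul]
  rw [Finset.sum_const, Finset.card_univ, nsmul_eq_mul] at h2
  exact (mul_eq_zero.1 h2).resolve_left (Nat.cast_ne_zero.2 Fintype.card_ne_zero)

end Cfsg.Agent.Lib.Cusp48
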